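import Groth.Agent.OrbitLib.Immersion
import Groth.Agent.S19461
import Groth.Prelude

/-!
# Monomorphisms of algebraic groups that are isomorphisms infinitesimally
-/

set_option autoImplicit false
set_option linter.style.haveILetI false
set_option backward.isDefEq.respectTransparency false

universe u

open CategoryTheory CategoryTheory.Limits MonoidalCategory CartesianMonoidalCategory AlgebraicGeometry IsLocalRing
open scoped MonObj

noncomputable section

namespace OrbitLib

/-- A local map inducing bijections modulo all powers of the maximal ideals is flat. -/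
theorem flat_of_bijective_pow (A B : Type u) [CommRing A] [CommRing B] [IsLocalRing A] [IsLocalRing B]
    [IsNoetherianRing A] [IsNoetherianRing B] [Algebra A B] [IsLocalHom (algebraMap A B)]
    (h : ∀ n : ℕ, Function.Surjective ((Ideal.Quotient.mk (maximalIdeal B ^ (n + 1))).comp (algebraMap A B)) ∧
      ∀ a : A, algebraMap A B a ∈ maximalIdeal B ^ (n + 1) ↔ a ∈ maximalIdeal A ^ (n + 1)) :
    Module.Flat A B := by
  have hle : ∀ n, maximalIdeal A ^ n ≤ (maximalIdeal B ^ n).comap (algebraMap A B) := by
    rintro (_ | n) a ha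
    · simp
    · exact ((h n).2 a).mpr ha
  let q : ∀ n, A ⧸ maximalIdeal A ^ n →+* B ⧸ maximalIdeal B ^ n := fun n => Ideal.quotientMap _ _ (hle n)
  have hq : ∀ n, Function.Bijective (q n) := by
    rintro (_ | n)
    · haveI : Subsingleton (A ⧸ maximalIdeal A ^ 0) := Ideal.Quotient.subsingleton_iff.mpr (by simp)
      haveI : Subsingleton (B ⧸ maximalIdeal B ^ 0) := Ideal.Quotient.subsingleton_iff.mpr (by simp)
      exact ⟨Function.injective_of_subsingleton _, Function.surjective_to_subsingleton _⟩
    · refine ⟨(injective_iff_map_eq_zero _).mpr fun x hx => ?_, fun y => ?_⟩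
      · obtain ⟨a, rfl⟩ := Ideal.Quotient.mk_surjective x
        simp only [q, Ideal.quotientMap_mk] at hx
        exact Ideal.Quotient.eq_zero_iff_mem.mpr (((h n).2 a).mp (Ideal.Quotient.eq_zero_iff_mem.mp hx))
      · obtain ⟨a, ha⟩ := (h n).1 y
        exact ⟨Ideal.Quotient.mk _ a, by simpa [q, Ideal.quotientMap_mk] using ha⟩
  let e := fun n => RingEquiv.ofBijective (q n) (hq n)
  have hqn : ∀ {m n : ℕ} (hmn : m ≤ n) (x : A ⧸ maximalIdeal A ^ n),
      Ideal.Quotient.factor (Ideal.pow_le_pow_right hmn) (q n x) =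
        q m (Ideal.Quotient.factor (Ideal.pow_le_pow_right hmn) x) := by
    intro m n hmn x
    obtain ⟨a, rfl⟩ := Ideal.Quotient.mk_surjective x
    simp only [q, Ideal.quotientMap_mk, Ideal.Quotient.factor_mk]
  have hc : ∀ {m n : ℕ} (hmn : m ≤ n) (x : AdicCompletion (maximalIdeal A) A),
      Ideal.Quotient.factor (Ideal.pow_le_pow_right hmn) (AdicCompletion.evalₐ (maximalIdeal A) n x) =
        AdicCompletion.evalₐ (maximalIdeal A) m x := by
    intro m n hmn x
    induction x using AdicCompletion.induction_on with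
    | _ x =>
      simp only [AdicCompletion.evalₐ_mk, Ideal.Quotient.factor_mk, Ideal.Quotient.eq]
      have := x.property hmn
      rw [SModEq.sub_mem, smul_eq_mul, Ideal.mul_top] at this
      exact (Submodule.sub_mem_iff_left _ (by simp : (0 : A) ∈ maximalIdeal A ^ m)).mp (by
        simpa using neg_mem this)
  have hcB : ∀ {m n : ℕ} (hmn : m ≤ n) (x : AdicCompletion (maximalIdeal B) B),
      Ideal.Quotient.factor (Ideal.pow_le_pow_right hmn) (AdicCompletion.evalₐ (maximalIdeal B) n x) =
        AdicCompletion.evalₐ (maximalIdeal B) m x := by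
    intro m n hmn x
    induction x using AdicCompletion.induction_on with
    | _ x =>
      simp only [AdicCompletion.evalₐ_mk, Ideal.Quotient.factor_mk, Ideal.Quotient.eq]
      have := x.property hmn
      rw [SModEq.sub_mem, smul_eq_mul, Ideal.mul_top] at this
      exact (Submodule.sub_mem_iff_left _ (by simp : (0 : B) ∈ maximalIdeal B ^ m)).mp (by
        simpa using neg_mem this)
  let f : ∀ n, AdicCompletion (maximalIdeal A) A →+* B ⧸ maximalIdeal B ^ n :=
    fun n => (q n).comp (AdicCompletion.evalₐ (maximalIdeal A) n).toRingHom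
  let g : ∀ n, AdicCompletion (maximalIdeal B) B →+* A ⧸ maximalIdeal A ^ n :=
    fun n => (e n).symm.toRingHom.comp (AdicCompletion.evalₐ (maximalIdeal B) n).toRingHom
  have hf : ∀ {m n : ℕ} (hle' : m ≤ n),
      (Ideal.Quotient.factorPow (maximalIdeal B) hle').comp (f n) = f m := by
    intro m n hmn
    ext x
    exact (hqn hmn _).trans (congrArg (q m) (hc hmn x))
  have hg : ∀ {m n : ℕ} (hle' : m ≤ n),
      (Ideal.Quotient.factorPow (maximalIdeal A) hle').comp (g n) = g m := by
    intro m n hmn
    ext x
    apply (hq m).1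
    refine ((hqn hmn _).symm.trans ?_).trans ((e m).apply_symm_apply _).symm
    rw [show q n ((g n) x) = AdicCompletion.evalₐ (maximalIdeal B) n x from (e n).apply_symm_apply _]
    exact hcB hmn x
  let ψ := AdicCompletion.liftRingHom (maximalIdeal B) f hf
  let χ := AdicCompletion.liftRingHom (maximalIdeal A) g hg
  refine (Groth.Agent.S19461.result A B ψ ?_ ?_).1
  · refine RingHom.ext fun a => AdicCompletion.ext_evalₐ fun n => ?_
    simp only [ψ, RingHom.comp_apply, AdicCompletion.evalₐ_liftRingHom, f]
    show q n (AdicCompletion.evalₐ (maximalIdeal A) n (algebraMap A _ a)) =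
      AdicCompletion.evalₐ (maximalIdeal B) n (algebraMap B _ (algebraMap A B a))
    rw [AlgHom.commutes, AlgHom.commutes, Ideal.Quotient.algebraMap_eq, Ideal.Quotient.algebraMap_eq,
      Ideal.quotientMap_mk]
  · refine Function.bijective_iff_has_inverse.mpr ⟨χ, fun x => AdicCompletion.ext_evalₐ fun n => ?_,
      fun x => AdicCompletion.ext_evalₐ fun n => ?_⟩
    · simp only [χ, ψ, AdicCompletion.evalₐ_liftRingHom, g, RingHom.comp_apply]
      show (e n).symm (AdicCompletion.evalₐ (maximalIdeal B) n (ψ x)) = _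
      simp only [ψ, AdicCompletion.evalₐ_liftRingHom, f]
      exact (e n).symm_apply_apply _
    · simp only [ψ, AdicCompletion.evalₐ_liftRingHom, f, RingHom.comp_apply]
      show q n (AdicCompletion.evalₐ (maximalIdeal A) n (χ x)) = _
      simp only [χ, AdicCompletion.evalₐ_liftRingHom, g]
      exact (e n).apply_symm_apply _

variable {k : Type u} [Field k] {H G : Over (Spec (CommRingCat.of k))} [GrpObj H] [GrpObj G]
  (f : H ⟶ G) [IsMonHom f]

/-- The action of the source of a homomorphism on its target by left multiplication. -/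
def homAction : AlgGrp.Action H G where
  act := (f ▷ G) ≫ μ[G]
  one_act := by
    rw [← comp_whiskerRight_assoc, IsMonHom.one_hom, MonObj.one_mul]
  mul_act := by
    have e : (f ▷ G) ≫ μ[G] = (fst H G ≫ f) * snd H G := by
      rw [Hom.mul_def]; congr 1
    have eH : μ[H] = fst H H * snd H H := by rw [Hom.mul_def, lift_fst_snd, Category.id_comp]
    rw [e, MonObj.comp_mul, MonObj.comp_mul, MonObj.comp_mul, whiskerLeft_fst_assoc, whiskerLeft_snd,
      MonObj.comp_mul, MonObj.comp_mul, whiskerRight_fst_assoc, whiskerRight_snd, eH, MonObj.mul_comp,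
      MonObj.comp_mul, mul_assoc]
    simp only [Category.assoc, associator_hom_fst_assoc, associator_hom_snd_fst_assoc, associator_hom_snd_snd]

theorem orbitMap_homAction : (homAction f).orbitMap η[G] = f := by
  rw [AlgGrp.Action.orbitMap, homAction, lift_whiskerRight_assoc, Category.id_comp, ← Hom.one_def, ← Hom.mul_def,
    mul_one]

theorem isOpenImmersion_of_infinitesimal [LocallyOfFiniteType H.hom] [LocallyOfFiniteType G.hom] [Mono f.left]
    (pt : ↥(𝟙_ (Over (Spec (CommRingCat.of k)))).left)
    (h : ∀ n : ℕ,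
      Function.Surjective ((Ideal.Quotient.mk (maximalIdeal
          ↑(H.left.presheaf.stalk (η[H].left pt)) ^ (n + 1))).comp
        (f.left.stalkMap (η[H].left pt)).hom) ∧
      ∀ a : ↑(G.left.presheaf.stalk (f.left (η[H].left pt))),
        (f.left.stalkMap (η[H].left pt)).hom a ∈
            maximalIdeal ↑(H.left.presheaf.stalk (η[H].left pt)) ^ (n + 1) ↔
          a ∈ maximalIdeal ↑(G.left.presheaf.stalk (f.left (η[H].left pt))) ^ (n + 1)) :
    IsOpenImmersion f.left := by
  haveI : IsLocallyNoetherian G.left := LocallyOfFiniteType.isLocallyNoetherian G.hom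
  haveI : IsLocallyNoetherian H.left := LocallyOfFiniteType.isLocallyNoetherian H.hom
  haveI : LocallyOfFiniteType (f.left ≫ G.hom) := by rw [Over.w]; infer_instance
  haveI : LocallyOfFiniteType f.left := locallyOfFiniteType_of_comp _ G.hom
  haveI : LocallyOfFinitePresentation f.left := UOpenLib.locallyOfFinitePresentation_of_isLocallyNoetherian _
  set e := η[H].left pt
  have hflat : FlatLib.FlatAt f.left e := by
    letI := (f.left.stalkMap e).hom.toAlgebra
    haveI : IsLocalHom (algebraMap (G.left.presheaf.stalk (f.left e)) (H.left.presheaf.stalk e)) :=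
      f.left.toLRSHom.prop e
    show Module.Flat (G.left.presheaf.stalk (f.left e)) (H.left.presheaf.stalk e)
    exact flat_of_bijective_pow _ _ h
  obtain ⟨O, heO, hO⟩ := FlatLib.exists_open_flat f.left hflat
  haveI := hO
  haveI : IsOpenImmersion (O.ι ≫ f.left) := IsOpenImmersion.of_flat_of_mono _
  let V : G.left.Opens := (O.ι ≫ f.left).opensRange
  have hpre : f.left ⁻¹ᵁ V = O := TopologicalSpace.Opens.ext (Set.ext fun w => by
    refine ⟨fun hw => ?_, fun hw => ⟨⟨w, hw⟩, rfl⟩⟩
    obtain ⟨o, ho⟩ := hw
    haveI : UniversallyInjective f.left := inferInstance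
    exact f.left.injective ho ▸ o.2)
  have hV : IsOpenImmersion (f.left ∣_ V) := by
    haveI : IsOpenImmersion ((f.left ⁻¹ᵁ V).ι ≫ f.left) := by rw [hpre]; infer_instance
    haveI : IsOpenImmersion ((f.left ∣_ V) ≫ V.ι) := by rw [morphismRestrict_ι]; infer_instance
    exact IsOpenImmersion.of_comp (f.left ∣_ V) V.ι
  obtain ⟨U, hU, hUi⟩ := exists_open_of_equivariant (homAction f) (GrpShear.mulAction H) f @IsOpenImmersion
    (by
      show μ[H] ≫ f = (H ◁ f) ≫ (f ▷ G) ≫ μ[G]
      rw [IsMonHom.mul_hom, MonoidalCategory.tensorHom_def']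
      simp)
    η[G] V ⟨f.left e, ⟨e, by rw [orbitMap_homAction]⟩, ⟨⟨e, heO⟩, rfl⟩⟩ hV
  haveI := hUi
  haveI : IsIso (f.left ⁻¹ᵁ U).ι := isIso_of_isOpenImmersion_of_opensRange_eq_top _ (by
    rw [Scheme.Opens.opensRange_ι]
    exact top_le_iff.mp fun w _ => hU ⟨w, by rw [orbitMap_homAction]⟩)
  rw [← IsIso.inv_hom_id_assoc (f.left ⁻¹ᵁ U).ι f.left, ← morphismRestrict_ι]
  infer_instance

end OrbitLib
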