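import Groth.Agent.FibDimLib.Pure
import Groth.Agent.FibDimLib.FibreJumps
import Groth.Agent.MiscFlat6.TopDimCovers

/-!
# Boundaries of locally closed subsets of schemes of finite type over a field
-/

set_option autoImplicit false
set_option backward.isDefEq.respectTransparency false

universe u

open CategoryTheory CategoryTheory.Limits AlgebraicGeometry TopologicalSpace Topology

namespace OrbitLib

theorem dim_closed_le {A : Type u} [TopologicalSpace A] [T0Space A] [QuasiSober A] {B : Set A} (hB : IsClosed B)
    {c : WithBot ℕ∞} (h : ∀ b ∈ B, topologicalKrullDim (closure ({b} : Set A)) ≤ c) :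
    topologicalKrullDim B ≤ c := by
  haveI : QuasiSober B := hB.isClosedEmbedding_subtypeVal.quasiSober
  refine FibDimLib.topologicalKrullDim_le_of_generic fun w _ => le_trans (le_of_eq ?_) (h w w.2)
  have e : Subtype.val '' closure ({w} : Set B) = closure ({(w : A)} : Set A) := by
    rw [← hB.isClosedEmbedding_subtypeVal.closure_image_eq, Set.image_singleton]
  let H : closure ({w} : Set B) ≃ₜ (Subtype.val '' closure ({w} : Set B) : Set A) :=
    (IsEmbedding.subtypeVal.comp IsEmbedding.subtypeVal).toHomeomorph.trans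
      (Homeomorph.setCongr (by rw [Set.range_comp, Subtype.range_coe]))
  exact IsHomeomorph.topologicalKrullDim_eq _ (H.trans (Homeomorph.setCongr e)).isHomeomorph

variable {k : Type u} [Field k] (F : Over (Spec (CommRingCat.of k))) [LocallyOfFiniteType F.hom] [CompactSpace F.left]

theorem exists_dim_eq_nat [Nonempty F.left] : ∃ n : ℕ, topologicalKrullDim F.left = (n : WithBot ℕ∞) := by
  haveI : IsLocallyNoetherian F.left := LocallyOfFiniteType.isLocallyNoetherian F.hom
  haveI : IsNoetherian F.left := {}
  obtain ⟨z, -, hz⟩ := FibDimLib.exists_generic_closure_dim (A := F.left)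
  obtain ⟨s, hs, -⟩ := WeilLib.pdim_eq_trdeg F z
  exact ⟨s, hz.trans hs⟩

/-- The boundary of a locally closed set has smaller dimension. -/
theorem dim_closure_diff_lt {C : Set F.left} (hC : IsLocallyClosed C) (hne : C.Nonempty) :
    topologicalKrullDim ↥(closure C \ C) < topologicalKrullDim C := by
  haveI : IsLocallyNoetherian F.left := LocallyOfFiniteType.isLocallyNoetherian F.hom
  haveI : IsNoetherian F.left := {}
  obtain ⟨O, Z, hO, hZ, hC⟩ := hC
  have hCO : C = O ∩ closure C := subset_antisymm
    (fun c hc => ⟨(hC ▸ hc : c ∈ O ∩ Z).1, subset_closure hc⟩)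
    fun c hc => hC ▸ ⟨hc.1, closure_minimal (fun d hd => (hC ▸ hd : d ∈ O ∩ Z).2) hZ hc.2⟩
  have hB : IsClosed (closure C \ C) := by
    rw [show closure C \ C = closure C ∩ Oᶜ by
      conv_lhs => arg 2; rw [hCO]
      ext c; simp]
    exact isClosed_closure.inter hO.isClosed_compl
  obtain ⟨c₀, hc₀⟩ := hne
  obtain ⟨n, hn⟩ : ∃ n : ℕ, topologicalKrullDim C = (n : WithBot ℕ∞) := by
    haveI : Nonempty F.left := ⟨c₀⟩
    obtain ⟨N, hN⟩ := exists_dim_eq_nat F
    have h1 : topologicalKrullDim C ≤ N := hN ▸ topologicalKrullDim_subspace_le _ C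
    have h0 : 0 ≤ topologicalKrullDim C := by
      haveI : Nonempty (IrreducibleCloseds C) :=
        ⟨⟨irreducibleComponent (⟨c₀, hc₀⟩ : C), isIrreducible_irreducibleComponent, isClosed_irreducibleComponent⟩⟩
      exact Order.krullDim_nonneg
    revert h0 h1
    cases topologicalKrullDim C with
    | bot => intro _ h0; exact absurd h0 (by simp)
    | coe v => cases v with
      | top => intro h1 _; exact absurd (top_le_iff.mp (WithBot.coe_le_coe.mp h1 : (⊤ : ℕ∞) ≤ (N : ℕ∞))) (ENat.natCast_ne_top N)
      | coe v => intro _ _; exact ⟨v, rfl⟩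
  have key : ∀ b ∈ closure C \ C, ∃ m : ℕ, m < n ∧
      topologicalKrullDim (closure ({b} : Set F.left)) = (m : WithBot ℕ∞) := by
    rintro b ⟨hbC, hb⟩
    have hfin : (irreducibleComponents C).Finite := NoetherianSpace.finite_irreducibleComponents
    have hcov : C ⊆ ⋃ Y ∈ irreducibleComponents C, closure (Subtype.val '' Y) := fun c hc =>
      Set.mem_biUnion (irreducibleComponent_mem_irreducibleComponents (⟨c, hc⟩ : C))
        (subset_closure ⟨⟨c, hc⟩, mem_irreducibleComponent, rfl⟩)
    obtain ⟨Y, hY, hbY⟩ := Set.mem_iUnion₂.mp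
      (closure_minimal hcov (hfin.isClosed_biUnion fun _ _ => isClosed_closure) hbC)
    have hY' : IsIrreducible (closure (Subtype.val '' Y : Set F.left)) :=
      (hY.1.image _ continuous_subtype_val.continuousOn).closure
    obtain ⟨η, hη⟩ := QuasiSober.sober hY' isClosed_closure
    have hηC : η ∈ closure C := closure_mono (by rintro _ ⟨c, -, rfl⟩; exact c.2) hη.mem
    have hηO : η ∈ O := by
      obtain ⟨c, hc⟩ := hY.1.nonempty
      exact (hη.specializes (subset_closure ⟨c, hc, rfl⟩)).mem_open hO (hCO ▸ c.2 : (c : F.left) ∈ O ∩ closure C).1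
    have hηb : η ⤳ b := hη.specializes hbY
    obtain ⟨m, hm, -⟩ := WeilLib.pdim_eq_trdeg F b
    obtain ⟨s, hs, -⟩ := WeilLib.pdim_eq_trdeg F η
    refine ⟨m, ?_, hm⟩
    have hsn : s ≤ n := by
      let W : F.left.Opens := ⟨O, hO⟩
      have hW : topologicalKrullDim (closure ({⟨η, hηO⟩} : Set W)) = s :=
        (FibDimLib.topologicalKrullDim_closure_open F W ⟨η, hηO⟩).trans hs
      have hmem : ∀ w : ↥(closure ({⟨η, hηO⟩} : Set W)), (Subtype.val w).1 ∈ C := fun w =>
        hCO.ge ⟨(Subtype.val w).2, closure_minimal (Set.singleton_subset_iff.mpr hηC) isClosed_closure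
          (((specializes_iff_mem_closure.mpr w.2).map continuous_subtype_val).mem_closure)⟩
      have hemb : IsInducing (fun w : ↥(closure ({⟨η, hηO⟩} : Set W)) => (⟨(Subtype.val w).1, hmem w⟩ : C)) :=
        ((IsEmbedding.subtypeVal.comp IsEmbedding.subtypeVal).codRestrict C hmem).isInducing
      have := hemb.topologicalKrullDim_le
      rw [hW, hn] at this
      exact_mod_cast this
    have hlt : topologicalKrullDim (closure ({b} : Set F.left)) < topologicalKrullDim (closure ({η} : Set F.left)) := by
      haveI : IrreducibleSpace (closure ({η} : Set F.left)) :=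
        isIrreducible_iff_irreducibleSpace.mp isIrreducible_singleton.closure
      have hsub : closure ({b} : Set F.left) ⊆ closure {η} :=
        closure_minimal (Set.singleton_subset_iff.mpr hηb.mem_closure) isClosed_closure
      have hne : (Subtype.val ⁻¹' closure ({b} : Set F.left) : Set (closure ({η} : Set F.left))) ≠ Set.univ := by
        intro h
        have hbη : b ⤳ η := specializes_iff_mem_closure.mpr
          (show (⟨η, subset_closure rfl⟩ : closure ({η} : Set F.left)) ∈ Subtype.val ⁻¹' closure ({b} : Set F.left)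
            from h ▸ trivial)
        exact hb (hCO.ge ⟨(hηb.antisymm hbη).eq ▸ hηO, hbC⟩)
      have := MiscFlat6.dim_lt_of_ssubset (by rw [hs]; exact WithBot.coe_injective.ne (ENat.natCast_ne_top s))
        (isClosed_closure.preimage continuous_subtype_val) hne
      refine lt_of_eq_of_lt ?_ this
      let H : closure ({b} : Set F.left) ≃ₜ
          (Subtype.val ⁻¹' closure ({b} : Set F.left) : Set (closure ({η} : Set F.left))) :=
        { toFun := fun z => ⟨⟨z.1, hsub z.2⟩, z.2⟩
          invFun := fun z => ⟨z.1.1, z.2⟩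
          left_inv := fun _ => rfl
          right_inv := fun _ => rfl }
      exact IsHomeomorph.topologicalKrullDim_eq _ H.isHomeomorph
    rw [hm, hs] at hlt
    exact (Nat.cast_lt.mp (by exact_mod_cast hlt)).trans_le hsn
  rcases Set.eq_empty_or_nonempty (closure C \ C) with h | ⟨b, hb⟩
  · haveI : IsEmpty ↥(closure C \ C) := Set.isEmpty_coe_sort.mpr h
    haveI : IsEmpty (IrreducibleCloseds ↥(closure C \ C)) := ⟨fun s => isEmptyElim s.2.nonempty.some⟩
    rw [topologicalKrullDim, Order.krullDim_eq_bot, hn]
    exact WithBot.bot_lt_coe _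
  · obtain ⟨m, hmn, -⟩ := key b hb
    refine lt_of_le_of_lt (dim_closed_le (c := ((n - 1 : ℕ) : WithBot ℕ∞)) hB fun z hz => ?_) ?_
    · obtain ⟨j, hj, hj'⟩ := key z hz
      rw [hj']
      exact_mod_cast Nat.le_sub_one_of_lt hj
    · rw [hn]
      exact_mod_cast Nat.sub_one_lt_of_lt hmn

end OrbitLib
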