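import Groth.Agent.OrbitLib.Basic
import Groth.Agent.OrbitLib.Dim
import Mathlib.AlgebraicGeometry.AlgClosed.Basic

/-!
# Closed orbits
-/

set_option autoImplicit false
set_option backward.isDefEq.respectTransparency false

universe u

open CategoryTheory CategoryTheory.Limits MonoidalCategory CartesianMonoidalCategory AlgebraicGeometry
open TopologicalSpace Topology
open scoped MonObj

noncomputable section

namespace OrbitLib

variable {k : Type u} [Field k] {G X : Over (Spec (CommRingCat.of k))} [GrpObj G] (a : AlgGrp.Action G X)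
  [LocallyOfFiniteType G.hom] [QuasiCompact G.hom] [LocallyOfFiniteType X.hom] [QuasiCompact X.hom]

theorem dim_boundary_lt (x : 𝟙_ (Over (Spec (CommRingCat.of k))) ⟶ X) :
    topologicalKrullDim ↥(_root_.closure (orbit a x) \ orbit a x) < topologicalKrullDim ↥(orbit a x) :=
  haveI : CompactSpace X.left := QuasiCompact.compactSpace_of_compactSpace X.hom
  dim_closure_diff_lt X (isLocallyClosed_orbit a x) (orbit_nonempty a x)

omit [GrpObj G] [LocallyOfFiniteType G.hom] [QuasiCompact G.hom] [QuasiCompact X.hom] in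
theorem exists_rational_point [IsAlgClosed k] {B : Set X.left} (hB : IsClosed B) (hne : B.Nonempty) :
    ∃ y : 𝟙_ (Over (Spec (CommRingCat.of k))) ⟶ X, Set.range y.left ⊆ B := by
  haveI : JacobsonSpace X.left := LocallyOfFiniteType.jacobsonSpace X.hom
  obtain ⟨p, hpB, hp⟩ := nonempty_inter_closedPoints hne hB.isLocallyClosed
  refine ⟨Over.homMk (pointOfClosedPoint X.hom p hp) (pointOfClosedPoint_comp _ _ _), ?_⟩
  rintro _ ⟨q, rfl⟩
  exact (pointOfClosedPoint_apply X.hom p hp q).symm ▸ hpB

theorem isClosed_of_minimal [IsAlgClosed k] (x : 𝟙_ (Over (Spec (CommRingCat.of k))) ⟶ X)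
    (hmin : ∀ y : 𝟙_ (Over (Spec (CommRingCat.of k))) ⟶ X,
      topologicalKrullDim ↥(orbit a x) ≤ topologicalKrullDim ↥(orbit a y)) :
    IsClosed (orbit a x) := by
  rw [← closure_subset_iff_isClosed, ← Set.sdiff_eq_empty, ← Set.not_nonempty_iff_eq_empty]
  intro hne
  obtain ⟨O, Z, hO, hZ, hC⟩ := isLocallyClosed_orbit a x
  have hB : IsClosed (_root_.closure (orbit a x) \ orbit a x) := by
    have : _root_.closure (orbit a x) \ orbit a x = _root_.closure (orbit a x) ∩ Oᶜ := by
      have hsub : _root_.closure (orbit a x) ⊆ Z := closure_minimal (hC ▸ Set.inter_subset_right) hZ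
      ext c
      exact ⟨fun h => ⟨h.1, fun h' => h.2 (hC ▸ ⟨h', hsub h.1⟩)⟩, fun h => ⟨h.1, fun h' => h.2 (hC ▸ h' : c ∈ O ∩ Z).1⟩⟩
    rw [this]
    exact isClosed_closure.inter hO.isClosed_compl
  obtain ⟨y, hy⟩ := exists_rational_point (X := X) hB hne
  have hsub := orbit_subset a y (((invariant_orbit a x).closure a).diff a (invariant_orbit a x)) hy
  exact lt_irrefl _ (((hmin y).trans (IsEmbedding.inclusion hsub).isInducing.topologicalKrullDim_le).trans_lt
    (dim_boundary_lt a x))

theorem exists_closed_orbit [IsAlgClosed k] [Nonempty X.left] :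
    ∃ x : 𝟙_ (Over (Spec (CommRingCat.of k))) ⟶ X, IsClosed (orbit a x) := by
  obtain ⟨x₀, -⟩ := exists_rational_point (X := X) isClosed_univ Set.univ_nonempty
  obtain ⟨_, ⟨x, rfl⟩, hmin⟩ :=
    wellFounded_lt.has_min (Set.range fun x : 𝟙_ (Over (Spec (CommRingCat.of k))) ⟶ X =>
      topologicalKrullDim ↥(orbit a x)) ⟨_, x₀, rfl⟩
  exact ⟨x, isClosed_of_minimal a x fun y => not_lt.mp (hmin _ ⟨y, rfl⟩)⟩

end OrbitLib
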