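import Groth.Agent.OrbitLib.Basic
import Groth.Agent.EtShLib.StrataTop
import Groth.Agent.AlgSpLib.ReducedSmooth
import Groth.Agent.S2805
import Groth.Agent.UOpenLib.Criterion
set_option linter.style.haveILetI false

/-!
# Smoothness of reduced orbits
-/

set_option autoImplicit false
set_option backward.isDefEq.respectTransparency false

universe u

open CategoryTheory CategoryTheory.Limits MonoidalCategory CartesianMonoidalCategory AlgebraicGeometry
open TopologicalSpace Topology
open scoped MonObj

noncomputable section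

namespace OrbitLib

/-- A point of a reduced scheme generalising only to itself has a field as local ring. -/
theorem isField_stalk_of_max {O : Scheme.{u}} [IsReduced O] (e : O) (he : ∀ z, z ⤳ e → z = e) :
    IsField (O.presheaf.stalk e) := by
  let q := O.fromSpecStalk e
  haveI : Ring.KrullDimLE 0 (O.presheaf.stalk e) := Ring.KrullDimLE.mk₀ fun P hP ↦ by
    let p : Spec (O.presheaf.stalk e) := ⟨P, hP⟩
    have h1 : q p ∈ Set.range q := ⟨p, rfl⟩
    rw [Scheme.range_fromSpecStalk] at h1
    have h5 : q p = q (IsLocalRing.closedPoint _) := (he _ h1).trans Scheme.fromSpecStalk_closedPoint.symm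
    have h6 : P = IsLocalRing.maximalIdeal _ := congrArg PrimeSpectrum.asIdeal (q.isEmbedding.injective h5)
    rw [h6]
    exact IsLocalRing.maximalIdeal.isMaximal _
  exact Ring.KrullDimLE.isField_of_isReduced

/-- Smoothness descends along a flat morphism, at every point. -/
theorem smoothAt_map {P Q S : Scheme.{u}} (f : Q ⟶ S) (g : P ⟶ Q) [LocallyOfFinitePresentation f]
    [LocallyOfFinitePresentation (g ≫ f)] (w : P) (hg : (g.stalkMap w).hom.Flat)
    (hh : ∃ U : P.Opens, w ∈ U ∧ Smooth (U.ι ≫ g ≫ f)) : ∃ V : Q.Opens, g w ∈ V ∧ Smooth (V.ι ≫ f) :=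
  Groth.Agent.S2805.result f (g ≫ f) g rfl w hg hh

theorem smoothAt_comp {P Q S : Scheme.{u}} (f : Q ⟶ S) (g : P ⟶ Q) [Smooth g] (w : P)
    (hh : ∃ V : Q.Opens, g w ∈ V ∧ Smooth (V.ι ≫ f)) : ∃ U : P.Opens, w ∈ U ∧ Smooth (U.ι ≫ g ≫ f) := by
  obtain ⟨V, hV, hs⟩ := hh
  refine ⟨g ⁻¹ᵁ V, hV, ?_⟩
  rw [← Category.assoc, ← morphismRestrict_ι, Category.assoc]
  haveI : Smooth (g ∣_ V) := IsZariskiLocalAtTarget.restrict ‹_› V
  infer_instance

variable {k : Type u} [Field k] {G X : Over (Spec (CommRingCat.of k))} [GrpObj G] (a : AlgGrp.Action G X)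
  [Smooth G.hom]

theorem smooth_of_reduced_orbit [LocallyOfFiniteType X.hom] (x : 𝟙_ (Over (Spec (CommRingCat.of k))) ⟶ X)
    (O : Scheme.{u}) (i : O ⟶ X.left) [IsImmersion i] [IsReduced O]
    (hO : Set.range i = orbit a x) : Smooth (i ≫ X.hom) := by
  haveI : LocallyOfFinitePresentation (i ≫ X.hom) := by
    haveI : IsLocallyNoetherian X.left := LocallyOfFiniteType.isLocallyNoetherian X.hom
    exact UOpenLib.locallyOfFinitePresentation_of_isLocallyNoetherian _
  haveI : IsReduced G.left := AlgSpLib.isReduced_of_smooth G.hom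
  let Oo : Over (Spec (CommRingCat.of k)) := Over.mk (i ≫ X.hom)
  let io : Oo ⟶ X := Over.homMk i rfl
  haveI : IsReduced Oo.left := ‹IsReduced O›
  haveI : IsImmersion io.left := ‹IsImmersion i›
  haveI : Mono io := Over.mono_of_mono_left io
  haveI : LocallyOfFinitePresentation Oo.hom := ‹LocallyOfFinitePresentation (i ≫ X.hom)›
  haveI : IsReduced (G ⊗ Oo).left := by
    haveI : Smooth (snd G Oo).left := by rw [Over.snd_left]; infer_instance
    exact AlgSpLib.isReduced_of_smooth (snd G Oo).left
  have hr : Set.range ((G ◁ io) ≫ a.act).left ⊆ Set.range io.left := by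
    rintro _ ⟨w, rfl⟩
    rw [show Set.range io.left = orbit a x from hO, Over.comp_left, Scheme.Hom.comp_apply]
    refine (invariant_orbit a x).symm.subset (show (snd G X).left ((G ◁ io).left w) ∈ orbit a x from ?_)
    rw [← Scheme.Hom.comp_apply, ← Over.comp_left, whiskerLeft_snd, Over.comp_left, Scheme.Hom.comp_apply, ← hO]
    exact ⟨_, rfl⟩
  obtain ⟨l, hl⟩ := Groth.Agent.EtShLib.exists_lift_immersion io.left _ hr
  let act' : G ⊗ Oo ⟶ Oo := Over.homMk l (by
    rw [show Oo.hom = io.left ≫ X.hom from rfl, reassoc_of% hl, Over.w])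
  have hact : act' ≫ io = (G ◁ io) ≫ a.act := Over.OverMorphism.ext hl
  let b : AlgGrp.Action G Oo :=
    { act := act'
      one_act := by
        rw [← cancel_mono io, Category.assoc, hact, ← whisker_exchange_assoc, a.one_act, leftUnitor_naturality]
      mul_act := by
        rw [← cancel_mono io, Category.assoc, hact, ← whisker_exchange_assoc, a.mul_act,
          tensor_whiskerLeft, Category.assoc, Category.assoc, Iso.inv_hom_id_assoc, ← whiskerLeft_comp_assoc,
          ← hact, whiskerLeft_comp_assoc, Category.assoc, Category.assoc, hact] }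
  haveI : Smooth b.act.left := GrpShear.act_prop b @Smooth ‹Smooth G.hom›
  haveI : Smooth (snd G Oo).left := by rw [Over.snd_left]; infer_instance
  have hox : Set.range x.left ⊆ Set.range io.left := by
    rintro _ ⟨q, rfl⟩
    rw [show Set.range io.left = orbit a x from hO]
    refine ⟨η[G].left q, ?_⟩
    rw [← Scheme.Hom.comp_apply, ← Over.comp_left, comp_orbitMap, toUnit_unique (toUnit _) (𝟙 _),
      Category.id_comp]
    congr 2
    rw [show (η[G] : 𝟙_ (Over (Spec (CommRingCat.of k))) ⟶ G) = 1 by rw [Hom.one_def, toUnit_unique (toUnit _) (𝟙 _), Category.id_comp],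
      GrpShear.lift_one_act]
  haveI : IsReduced (𝟙_ (Over (Spec (CommRingCat.of k)))).left := inferInstanceAs (IsReduced (Spec (CommRingCat.of k)))
  obtain ⟨x', hx'⟩ := Groth.Agent.EtShLib.exists_lift_immersion io.left x.left hox
  let xo : 𝟙_ (Over (Spec (CommRingCat.of k))) ⟶ Oo := Over.homMk x' (by
    rw [show Oo.hom = io.left ≫ X.hom from rfl, reassoc_of% hx', Over.w])
  have hxo : xo ≫ io = x := Over.OverMorphism.ext hx'
  have horb : b.orbitMap xo ≫ io = a.orbitMap x := by
    simp only [AlgGrp.Action.orbitMap, b, Category.assoc, hact]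
    rw [lift_whiskerLeft_assoc, Category.assoc, hxo]
  have huniv : ∀ z : Oo.left, z ∈ orbit b xo := fun z => by
    obtain ⟨g, hg⟩ := hO.subset (⟨z, rfl⟩ : i z ∈ Set.range i)
    exact ⟨g, io.left.isEmbedding.injective (by
      rw [← Scheme.Hom.comp_apply, ← Over.comp_left, horb]; exact hg)⟩
  let Sm : Set Oo.left := {z | ∃ V : Oo.left.Opens, z ∈ V ∧ Smooth (V.ι ≫ Oo.hom)}
  haveI : LocallyOfFinitePresentation (b.act.left ≫ Oo.hom) := by rw [Over.w]; exact inferInstanceAs (LocallyOfFinitePresentation (pullback.fst G.hom Oo.hom ≫ G.hom))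
  haveI : LocallyOfFinitePresentation ((snd G Oo).left ≫ Oo.hom) := by rw [Over.w]; exact inferInstanceAs (LocallyOfFinitePresentation (pullback.fst G.hom Oo.hom ≫ G.hom))
  have hinv : ∀ w : (G ⊗ Oo).left, (snd G Oo).left w ∈ Sm → b.act.left w ∈ Sm := fun w hw => by
    refine smoothAt_map Oo.hom b.act.left w (Flat.stalkMap _ w) ?_
    rw [Over.w b.act, ← Over.w (snd G Oo)]
    exact smoothAt_comp Oo.hom (snd G Oo).left w hw
  obtain ⟨d, hd⟩ : Sm.Nonempty := by
    obtain ⟨g₀⟩ : Nonempty G.left := by
      haveI : Nonempty ↥(𝟙_ (Over (Spec (CommRingCat.of k)))).left := inferInstanceAs (Nonempty (PrimeSpectrum k))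
      exact ⟨η[G].left (Classical.arbitrary _)⟩
    let z₀ : Oo.left := (b.orbitMap xo).left g₀
    have hgen := (isIrreducible_irreducibleComponent (x := z₀)).isGenericPoint_genericPoint_closure
    rw [closure_eq_iff_isClosed.mpr isClosed_irreducibleComponent] at hgen
    set e := (isIrreducible_irreducibleComponent (x := z₀)).genericPoint
    have hmax : ∀ z, z ⤳ e → z = e := fun z hz => by
      have h1 : irreducibleComponent z₀ ⊆ closure {z} := by
        rw [← hgen.def]
        exact closure_minimal (Set.singleton_subset_iff.mpr hz.mem_closure) isClosed_closure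
      have h2 : closure {z} ⊆ irreducibleComponent z₀ :=
        ((irreducibleComponent_mem_irreducibleComponents z₀).2 isIrreducible_singleton.closure h1)
      exact ((hgen.specializes (h2 (subset_closure rfl))).antisymm hz).eq.symm
    obtain ⟨g, hg⟩ := huniv e
    refine ⟨e, ?_⟩
    rw [← hg]
    haveI : LocallyOfFinitePresentation ((b.orbitMap xo).left ≫ Oo.hom) := by rw [Over.w]; infer_instance
    refine smoothAt_map Oo.hom (b.orbitMap xo).left g ?_ ⟨⊤, trivial, ?_⟩
    · letI := (((b.orbitMap xo).left).stalkMap g).hom.toAlgebra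
      letI := (show IsField (Oo.left.presheaf.stalk ((b.orbitMap xo).left g)) from
        hg ▸ isField_stalk_of_max e hmax).toField
      show Module.Flat (Oo.left.presheaf.stalk ((b.orbitMap xo).left g)) (G.left.presheaf.stalk g)
      infer_instance
    · rw [Over.w]; infer_instance
  have hall : ∀ z : Oo.left, ∃ V : Oo.left.Opens, z ∈ V ∧ Smooth (V.ι ≫ Oo.hom) := fun z => by
    obtain ⟨w, hw1, hw2⟩ := exists_transport b xo (huniv z) (huniv d)
    exact hw1 ▸ hinv w (hw2 ▸ hd)
  choose V hV hs using hall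
  exact (IsZariskiLocalAtSource.iff_of_iSup_eq_top V
    (top_le_iff.mp fun z _ => TopologicalSpace.Opens.mem_iSup.mpr ⟨z, hV z⟩)).mpr hs

end OrbitLib
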