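import Groth.Agent.OrbitLib.Immersion
import Groth.Agent.MonoQuotLib.Orbit
import Groth.Agent.AlgSpLib.ReducedSmooth
import Groth.Prelude

/-!
# Quotients by stabilisers and orbits
-/

set_option autoImplicit false
set_option linter.style.haveILetI false
set_option backward.isDefEq.respectTransparency false

universe u

open CategoryTheory CategoryTheory.Limits MonoidalCategory CartesianMonoidalCategory AlgebraicGeometry
open scoped MonObj

noncomputable section

namespace OrbitLib

open Groth.Agent.MonoQuot

variable {k : Type u} [Field k] {G X Go : Over (Spec (CommRingCat.of k))} [GrpObj G] [GrpObj Go]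
  (a : AlgGrp.Action G X) (o : 𝟙_ _ ⟶ X) (i : Go ⟶ G)

omit [GrpObj Go] in
theorem isPullback_stabilizer (hGo : IsPullback i (toUnit Go) (a.orbitMap o) o) :
    IsPullback (fst G Go) ((G ◁ i) ≫ μ[G]) (a.orbitMap o) (a.orbitMap o) :=
  haveI := mono_of_stabilizer i a o hGo
  isPullback_cosets i _ (orbit_iff i a o hGo)

theorem exists_iso_orbit [LocallyOfFiniteType G.hom] [QuasiCompact G.hom] [IsReduced G.left]
    [LocallyOfFiniteType X.hom] (hGo : IsPullback i (toUnit Go) (a.orbitMap o) o) {Y Z : Over (Spec (CommRingCat.of k))}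
    (b : AlgGrp.Action G Y) (y : 𝟙_ _ ⟶ Y) (hY : AGF.IsQuotient i Y b y) (z : Z ⟶ X) [IsImmersion z.left]
    [IsReduced Z.left] (hz : Set.range z.left = orbit a o) :
    ∃ e : Y ≅ Z, b.orbitMap y ≫ e.hom ≫ z = a.orbitMap o := by
  obtain ⟨hYf, hflat, hsurj, hsq⟩ := hY
  haveI := hYf; haveI := hflat; haveI := hsurj
  haveI : IsLocallyNoetherian Y.left := LocallyOfFiniteType.isLocallyNoetherian Y.hom
  haveI : IsLocallyNoetherian G.left := LocallyOfFiniteType.isLocallyNoetherian G.hom
  haveI : LocallyOfFiniteType ((b.orbitMap y).left ≫ Y.hom) := by rw [Over.w]; infer_instance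
  haveI : LocallyOfFiniteType (b.orbitMap y).left := locallyOfFiniteType_of_comp _ Y.hom
  haveI : LocallyOfFinitePresentation (b.orbitMap y).left :=
    UOpenLib.locallyOfFinitePresentation_of_isLocallyNoetherian _
  have hsqX := isPullback_stabilizer a o i hGo
  obtain ⟨m, hm⟩ := exists_desc_over (b.orbitMap y) (a.orbitMap o) fun T g g' h => by
    rw [← hsq.lift_fst g g' h, Category.assoc, hsqX.w, ← Category.assoc, hsq.lift_snd]
  haveI : Mono m := by
    haveI : Mono i := mono_of_stabilizer i a o hGo
    refine ⟨fun {T} u v huv => ?_⟩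
    -- cover `T` by the fppf pullbacks along the quotient map
    let P := Limits.pullback u (b.orbitMap y)
    let q : P ⟶ T := pullback.fst u (b.orbitMap y)
    let Q := Limits.pullback (q ≫ v) (b.orbitMap y)
    let r : Q ⟶ P := pullback.fst (q ≫ v) (b.orbitMap y)
    have hq : ∀ {A B : Over (Spec (CommRingCat.of k))} (f : A ⟶ B) (g : G ⟶ B) [Flat g.left]
        [LocallyOfFinitePresentation g.left] [Surjective g.left], Flat (pullback.fst f g).left ∧
        LocallyOfFinitePresentation (pullback.fst f g).left ∧ Surjective (pullback.fst f g).left := by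
      intro A B f g _ _ _
      have h := ((IsPullback.of_hasPullback f g).map (Over.forget _)).flip
      exact ⟨MorphismProperty.of_isPullback (P := @Flat) h ‹Flat g.left›,
        MorphismProperty.of_isPullback (P := @LocallyOfFinitePresentation) h ‹LocallyOfFinitePresentation g.left›,
        MorphismProperty.of_isPullback (P := @Surjective) h ‹Surjective g.left›⟩
    obtain ⟨_, _, _⟩ := hq u (b.orbitMap y)
    obtain ⟨_, _, _⟩ := hq (q ≫ v) (b.orbitMap y)
    haveI : Epi q := epi_over q
    haveI : Epi r := epi_over r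
    rw [← cancel_epi q, ← cancel_epi r]
    have h1 : (r ≫ pullback.snd u (b.orbitMap y)) ≫ a.orbitMap o = pullback.snd (q ≫ v) (b.orbitMap y) ≫ a.orbitMap o := by
      rw [← hm, Category.assoc, ← pullback.condition_assoc, ← pullback.condition_assoc, huv, Category.assoc]
    have h2 : (r ≫ pullback.snd u (b.orbitMap y)) ≫ b.orbitMap y = pullback.snd (q ≫ v) (b.orbitMap y) ≫ b.orbitMap y := by
      rw [← hsqX.lift_fst _ _ h1, Category.assoc, hsq.w, ← Category.assoc, hsqX.lift_snd]
    rw [Category.assoc, ← pullback.condition, ← pullback.condition] at h2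
    exact h2
  haveI : Mono m.left := inferInstanceAs (Mono ((Over.forget _).map m))
  haveI : IsReduced Y.left := AlgSpLib.isReduced_of_flat_surjective (b.orbitMap y).left
  have hr : Set.range m.left = orbit a o := by
    rw [orbit, ← hm, Over.comp_left, Scheme.Hom.comp_base, TopCat.coe_comp, Set.range_comp,
      (b.orbitMap y).left.surjective.range_eq, Set.image_univ]
  have hact : b.act ≫ m = (G ◁ m) ≫ a.act := by
    haveI : Epi (G ◁ b.orbitMap y) := by
      haveI : Flat (G ◁ b.orbitMap y).left :=
        MorphismProperty.of_isPullback (Groth.Agent.FinHom.isPullback_whiskerLeft G _).flip hflat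
      haveI : LocallyOfFinitePresentation (G ◁ b.orbitMap y).left :=
        MorphismProperty.of_isPullback (Groth.Agent.FinHom.isPullback_whiskerLeft G _).flip inferInstance
      haveI : Surjective (G ◁ b.orbitMap y).left :=
        MorphismProperty.of_isPullback (Groth.Agent.FinHom.isPullback_whiskerLeft G _).flip hsurj
      exact epi_over _
    rw [← cancel_epi (G ◁ b.orbitMap y), ← whiskerLeft_comp_assoc, hm]
    have key : ∀ {W : Over (Spec (CommRingCat.of k))} (c : AlgGrp.Action G W) (w : 𝟙_ _ ⟶ W),
        (G ◁ c.orbitMap w) ≫ c.act = μ[G] ≫ c.orbitMap w := by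
      intro W c w
      have e : (G ◁ c.orbitMap w) = lift (fst G G) (lift (snd G G) (toUnit (G ⊗ G) ≫ w) ≫ c.act) := by
        refine CartesianMonoidalCategory.hom_ext _ _ (by simp) ?_
        rw [whiskerLeft_snd, lift_snd, OrbitLib.comp_orbitMap]
      rw [e, ← GrpShear.lift_mul_act, OrbitLib.comp_orbitMap, Hom.mul_def, lift_fst_snd,
        Category.id_comp]
    rw [reassoc_of% (key b y), hm, key a o]
  haveI := isImmersion_of_equivariant a b m hact o Z.left z.left hz hr
  obtain ⟨e₁, he₁⟩ := Groth.Agent.EtShLib.exists_lift_immersion z.left m.left (hr.trans hz.symm).le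
  obtain ⟨e₂, he₂⟩ := Groth.Agent.EtShLib.exists_lift_immersion m.left z.left (hz.trans hr.symm).le
  let eL : Y.left ≅ Z.left := ⟨e₁, e₂, by rw [← cancel_mono m.left, Category.assoc, he₂, he₁, Category.id_comp],
    by rw [← cancel_mono z.left, Category.assoc, he₁, he₂, Category.id_comp]⟩
  let e : Y ≅ Z := Over.isoMk eL (by rw [← Over.w z]; show e₁ ≫ _ = _; rw [reassoc_of% he₁, Over.w m])
  refine ⟨e, ?_⟩
  rw [show e.hom ≫ z = m from Over.OverMorphism.ext he₁, hm]

end OrbitLib
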