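import Groth.Agent.GrpShear
import Groth.Agent.FinHomLib.Affine
import Groth.Agent.GrpFieldLib.Uniq
import Groth.Agent.SweepSix.Constr
import Mathlib.AlgebraicGeometry.Morphisms.FinitePresentation

/-!
# Orbits of actions of group schemes over a field
-/

set_option autoImplicit false
set_option backward.isDefEq.respectTransparency false

universe u

open CategoryTheory CategoryTheory.Limits MonoidalCategory CartesianMonoidalCategory AlgebraicGeometry
open TopologicalSpace Topology
open scoped MonObj

noncomputable section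

namespace OrbitLib

/-- A finite union of locally closed sets contains a nonempty open part of its closure. -/
theorem exists_open_inter_closure {A : Type*} [TopologicalSpace A] :
    ∀ (P : Finset (Set A)), (∀ p ∈ P, IsLocallyClosed p) → (⋃₀ (P : Set (Set A))).Nonempty →
      ∃ U : Set A, IsOpen U ∧ (U ∩ ⋃₀ (P : Set (Set A))).Nonempty ∧
        U ∩ closure (⋃₀ (P : Set (Set A))) ⊆ ⋃₀ (P : Set (Set A)) := by
  classical
  intro P
  induction P using Finset.induction with
  | empty => intro _ h; simp at h
  | insert p P hp ih =>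
    intro hlc hne
    rw [Finset.coe_insert, Set.sUnion_insert] at hne ⊢
    set C' := ⋃₀ (P : Set (Set A))
    by_cases hsub : p ⊆ closure C'
    · have hcl : closure (p ∪ C') = closure C' :=
        subset_antisymm (closure_minimal (Set.union_subset hsub subset_closure) isClosed_closure)
          (closure_mono Set.subset_union_right)
      have hne' : C'.Nonempty := by
        obtain ⟨x, hx⟩ := hne
        exact closure_nonempty_iff.mp ⟨x, hx.elim (fun h => hsub h) (fun h => subset_closure h)⟩
      obtain ⟨U, hU, hUne, hUsub⟩ := ih (fun q hq => hlc q (Finset.mem_insert_of_mem hq)) hne'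
      exact ⟨U, hU, hUne.mono (Set.inter_subset_inter_right _ Set.subset_union_right),
        hcl ▸ hUsub.trans Set.subset_union_right⟩
    · obtain ⟨O, F, hO, hF, hpOF⟩ := hlc p (Finset.mem_insert_self p P)
      obtain ⟨x, hxp, hxC⟩ := Set.not_subset.mp hsub
      refine ⟨O ∩ (closure C')ᶜ, hO.inter isClosed_closure.isOpen_compl,
        ⟨x, ⟨(hpOF ▸ hxp).1, hxC⟩, Or.inl hxp⟩, fun y hy => Or.inl ?_⟩
      rw [closure_union] at hy
      obtain ⟨⟨hyO, hyC⟩, hy⟩ := hy
      have hyF : y ∈ F := closure_minimal (fun z hz => (hpOF ▸ hz).2) hF (hy.resolve_right hyC)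
      exact hpOF ▸ ⟨hyO, hyF⟩

variable {k : Type u} [Field k] {G X : Over (Spec (CommRingCat.of k))} [GrpObj G] (a : AlgGrp.Action G X)

/-- A subset of `X` is invariant if its preimages under the action and the projection agree. -/
def Invariant (D : Set X.left) : Prop := a.act.left ⁻¹' D = (snd G X).left ⁻¹' D

theorem Invariant.compl {D : Set X.left} (h : Invariant a D) : Invariant a Dᶜ := by
  simp only [Invariant, Set.preimage_compl, show a.act.left ⁻¹' D = (snd G X).left ⁻¹' D from h]

theorem Invariant.diff {D E : Set X.left} (h : Invariant a D) (h' : Invariant a E) : Invariant a (D \ E) := by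
  simp only [Invariant, Set.preimage_sdiff, show a.act.left ⁻¹' D = (snd G X).left ⁻¹' D from h,
    show a.act.left ⁻¹' E = (snd G X).left ⁻¹' E from h']

theorem universallyOpen_snd : UniversallyOpen (snd G X).left := by
  haveI := Groth.Agent.GrpField.universallyOpen_field G.hom
  rw [Over.snd_left]
  infer_instance

theorem universallyOpen_act : UniversallyOpen a.act.left :=
  GrpShear.act_prop a @UniversallyOpen (Groth.Agent.GrpField.universallyOpen_field G.hom)

theorem isOpenMap_act : IsOpenMap a.act.left :=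
  haveI := universallyOpen_act a
  a.act.left.isOpenMap

theorem isOpenMap_snd : IsOpenMap (snd G X).left :=
  haveI := universallyOpen_snd (G := G) (X := X)
  (snd G X).left.isOpenMap

theorem Invariant.closure {D : Set X.left} (h : Invariant a D) : Invariant a (closure D) := by
  show a.act.left ⁻¹' _root_.closure D = (snd G X).left ⁻¹' _root_.closure D
  rw [(isOpenMap_act a).preimage_closure_eq_closure_preimage a.act.left.continuous,
    isOpenMap_snd.preimage_closure_eq_closure_preimage (snd G X).left.continuous,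
    show a.act.left ⁻¹' D = (snd G X).left ⁻¹' D from h]

theorem comp_orbitMap (x : 𝟙_ (Over (Spec (CommRingCat.of k))) ⟶ X) {T : Over (Spec (CommRingCat.of k))}
    (g : T ⟶ G) : g ≫ a.orbitMap x = lift g (toUnit T ≫ x) ≫ a.act := by
  rw [AlgGrp.Action.orbitMap, ← Category.assoc, comp_lift, Category.comp_id, ← Category.assoc g,
    toUnit_unique (g ≫ toUnit G) (toUnit T)]

/-- `(h, z) ↦ (h, h · z)`. -/
def shearX : G ⊗ X ≅ G ⊗ X := GrpShear.shear a (𝟙 G)

theorem shearX_snd : (shearX a).hom ≫ snd G X = a.act := by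
  rw [shearX, GrpShear.shear_hom_snd, id_whiskerRight, Category.id_comp]

variable (x : 𝟙_ (Over (Spec (CommRingCat.of k))) ⟶ X)

/-- The orbit as a set. -/
def orbit : Set X.left := Set.range (a.orbitMap x).left

theorem whiskerLeft_shear :
    (G ◁ a.orbitMap x) ≫ (shearX a).hom =
      (GrpShear.shear (GrpShear.mulAction G) (𝟙 G)).hom ≫ (G ◁ a.orbitMap x) := by
  refine CartesianMonoidalCategory.hom_ext _ _ ?_ ?_
  · simp only [shearX, GrpShear.shear, Category.assoc, lift_fst, whiskerLeft_fst]
  · simp only [shearX, GrpShear.shear, Category.assoc, lift_snd, whiskerLeft_snd, lift_snd_assoc, Category.comp_id]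
    rw [comp_lift_assoc, whiskerLeft_fst, whiskerLeft_snd, comp_orbitMap, ← GrpShear.lift_mul_act, comp_orbitMap]
    simp only [GrpShear.mulAction, lift_fst_snd, Category.id_comp]
    rw [Hom.mul_def, lift_fst_snd, Category.id_comp]

theorem range_whiskerLeft : Set.range (G ◁ a.orbitMap x).left = (snd G X).left ⁻¹' orbit a x := by
  have h := Scheme.image_preimage_eq_of_isPullback (Groth.Agent.FinHom.isPullback_whiskerLeft G (a.orbitMap x)).flip Set.univ
  rw [Set.preimage_univ, Set.image_univ, Set.image_univ] at h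
  rw [h, Over.snd_left]
  rfl

theorem invariant_orbit : Invariant a (orbit a x) := by
  have e : Set.range ((G ◁ a.orbitMap x) ≫ (shearX a).hom).left = Set.range (G ◁ a.orbitMap x).left := by
    rw [whiskerLeft_shear, Over.comp_left, Scheme.Hom.comp_base, TopCat.coe_comp, Set.range_comp,
      Set.range_eq_univ.mpr, Set.image_univ]
    exact ((Over.forget _).mapIso (GrpShear.shear (GrpShear.mulAction G) (𝟙 G))).hom.surjective
  rw [Over.comp_left, Scheme.Hom.comp_base, TopCat.coe_comp, Set.range_comp, range_whiskerLeft] at e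
  have hinj : Function.Injective (shearX a).hom.left :=
    ((Over.forget _).mapIso (shearX a)).hom.isOpenEmbedding.injective
  show a.act.left ⁻¹' _ = _
  rw [← shearX_snd a, Over.comp_left, Scheme.Hom.comp_base, TopCat.coe_comp, Set.preimage_comp]
  conv_lhs => rw [← e]
  exact hinj.preimage_image _

theorem exists_pair (g h : G.left) : ∃ w : (G ⊗ G).left, (fst G G).left w = g ∧ (snd G G).left w = h := by
  haveI : Subsingleton ↥(Spec (CommRingCat.of k)) := inferInstanceAs (Subsingleton (PrimeSpectrum k))
  obtain ⟨w, h1, h2⟩ := Scheme.Pullback.exists_preimage_pullback (f := G.hom) (g := G.hom) g h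
    (Subsingleton.elim _ _)
  exact ⟨w, by rw [Over.fst_left]; exact h1, by rw [Over.snd_left]; exact h2⟩

/-- The action is transitive on an orbit. -/
theorem exists_transport {c d : X.left} (hc : c ∈ orbit a x) (hd : d ∈ orbit a x) :
    ∃ w : (G ⊗ X).left, a.act.left w = c ∧ (snd G X).left w = d := by
  obtain ⟨g, rfl⟩ := hc
  obtain ⟨h, rfl⟩ := hd
  obtain ⟨w, h1, h2⟩ := exists_pair g h
  let l : G ⊗ G ⟶ G ⊗ X := lift (fst G G * (snd G G)⁻¹) (snd G G ≫ a.orbitMap x)
  have e1 : l ≫ a.act = fst G G ≫ a.orbitMap x := by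
    simp only [l]
    rw [comp_orbitMap, ← GrpShear.lift_mul_act, inv_mul_cancel_right, comp_orbitMap]
  have e2 : l ≫ snd G X = snd G G ≫ a.orbitMap x := lift_snd _ _
  refine ⟨l.left w, ?_, ?_⟩
  · rw [← Scheme.Hom.comp_apply, ← Over.comp_left, e1, Over.comp_left, Scheme.Hom.comp_apply, h1]
  · rw [← Scheme.Hom.comp_apply, ← Over.comp_left, e2, Over.comp_left, Scheme.Hom.comp_apply, h2]

theorem orbit_nonempty : (orbit a x).Nonempty := by
  haveI : Nonempty ↥(𝟙_ (Over (Spec (CommRingCat.of k)))).left := inferInstanceAs (Nonempty (PrimeSpectrum k))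
  obtain ⟨p⟩ := this
  exact ⟨_, η[G].left p, rfl⟩

/-- Translates of an open part of an orbit cover it. -/
theorem isLocallyClosed_orbit_of_open {U : Set X.left} (hU : IsOpen U) (hne : (U ∩ orbit a x).Nonempty)
    (hUC : U ∩ _root_.closure (orbit a x) ⊆ orbit a x) :
    IsLocallyClosed (orbit a x) := by
  let O : Set X.left := a.act.left '' ((snd G X).left ⁻¹' U)
  have hO : IsOpen O := isOpenMap_act a _ (hU.preimage (snd G X).left.continuous)
  refine ⟨O, _root_.closure (orbit a x), hO, isClosed_closure, subset_antisymm (fun c hc => ?_) ?_⟩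
  · obtain ⟨d, hdU, hd⟩ := hne
    obtain ⟨w, hw1, hw2⟩ := exists_transport a x hc hd
    exact ⟨⟨w, show (snd G X).left w ∈ U from hw2 ▸ hdU, hw1⟩, subset_closure hc⟩
  · rintro z ⟨⟨w, hw, rfl⟩, hz⟩
    have h1 : (snd G X).left w ∈ _root_.closure (orbit a x) := ((invariant_orbit a x).closure a).subset hz
    exact (invariant_orbit a x).symm.subset (hUC ⟨hw, h1⟩ : w ∈ (snd G X).left ⁻¹' orbit a x)

theorem isLocallyClosed_orbit [LocallyOfFiniteType G.hom] [QuasiCompact G.hom] [LocallyOfFiniteType X.hom]
    [QuasiCompact X.hom] : IsLocallyClosed (orbit a x) := by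
  haveI : CompactSpace X.left := QuasiCompact.compactSpace_of_compactSpace X.hom
  haveI : CompactSpace G.left := QuasiCompact.compactSpace_of_compactSpace G.hom
  haveI : IsLocallyNoetherian X.left := LocallyOfFiniteType.isLocallyNoetherian X.hom
  haveI : IsNoetherian X.left := {}
  haveI : LocallyOfFiniteType ((a.orbitMap x).left ≫ X.hom) := by rw [Over.w]; infer_instance
  haveI : LocallyOfFiniteType (a.orbitMap x).left := locallyOfFiniteType_of_comp _ X.hom
  haveI : QuasiCompact (a.orbitMap x).left := quasiCompact_of_compactSpace _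
  have hC : IsConstructible (orbit a x) := by
    rw [orbit, ← Set.image_univ]
    exact (a.orbitMap x).left.isConstructible_image IsConstructible.univ
  obtain ⟨P, hPf, hP, hPC⟩ := SweepSix.exists_isLocallyClosed_pieces hC
  obtain ⟨P, rfl⟩ := hPf.exists_finset_coe
  obtain ⟨U, hU, hne, hUC⟩ := exists_open_inter_closure P hP (hPC ▸ orbit_nonempty a x)
  rw [← hPC] at hne hUC
  exact isLocallyClosed_orbit_of_open a x hU hne hUC

/-- The orbit of a point of an invariant set lies in it. -/
theorem orbit_subset {D : Set X.left} (hD : Invariant a D) (hx : Set.range x.left ⊆ D) : orbit a x ⊆ D := by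
  rintro _ ⟨g, rfl⟩
  rw [AlgGrp.Action.orbitMap, Over.comp_left, Scheme.Hom.comp_apply]
  refine hD.symm.subset (show (lift (𝟙 G) (toUnit G ≫ x)).left g ∈ (snd G X).left ⁻¹' D from ?_)
  rw [Set.mem_preimage, ← Scheme.Hom.comp_apply, ← Over.comp_left, lift_snd, Over.comp_left, Scheme.Hom.comp_apply]
  exact hx ⟨_, rfl⟩

theorem least_stable_open (U : Set X.left) (hU : IsOpen U) :
    IsOpen (a.act.left '' ((snd G X).left ⁻¹' U)) ∧ U ⊆ a.act.left '' ((snd G X).left ⁻¹' U) ∧
    a.act.left '' ((snd G X).left ⁻¹' (a.act.left '' ((snd G X).left ⁻¹' U))) ⊆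
      a.act.left '' ((snd G X).left ⁻¹' U) := by
  refine ⟨isOpenMap_act a _ (hU.preimage (snd G X).left.continuous), fun z hz => ?_, ?_⟩
  · refine ⟨(lift (1 : X ⟶ G) (𝟙 X)).left z, ?_, ?_⟩
    · rw [Set.mem_preimage, ← Scheme.Hom.comp_apply, ← Over.comp_left, lift_snd]
      exact hz
    · rw [← Scheme.Hom.comp_apply, ← Over.comp_left, GrpShear.lift_one_act]
      rfl
  · rintro _ ⟨w, ⟨w', hw', e⟩, rfl⟩
    obtain ⟨v, hv1, hv2⟩ := Scheme.exists_preimage_of_isPullback
      (Groth.Agent.FinHom.isPullback_whiskerLeft G a.act) w w' (by rw [← Over.snd_left]; exact e.symm)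
    let l : G ⊗ (G ⊗ X) ⟶ G ⊗ X :=
      lift (fst G (G ⊗ X) * (snd G (G ⊗ X) ≫ fst G X)) (snd G (G ⊗ X) ≫ snd G X)
    have e1 : l ≫ a.act = (G ◁ a.act) ≫ a.act := by
      simp only [l]
      rw [GrpShear.lift_mul_act]
      congr 1
      refine CartesianMonoidalCategory.hom_ext _ _ (by simp) ?_
      rw [lift_snd, whiskerLeft_snd, ← comp_lift, lift_fst_snd, Category.comp_id]
    refine ⟨l.left v, ?_, ?_⟩
    · rw [Set.mem_preimage, ← Scheme.Hom.comp_apply, ← Over.comp_left, lift_snd, Over.comp_left,
        Scheme.Hom.comp_apply, Over.snd_left (R := G) (S := G ⊗ X), hv2]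
      exact hw'
    · rw [← Scheme.Hom.comp_apply, ← Over.comp_left, e1, Over.comp_left, Scheme.Hom.comp_apply, hv1]

end OrbitLib
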