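import Groth.Agent.OrbitLib.Basic
import Groth.Agent.GrpFieldLib.Homog
import Mathlib.AlgebraicGeometry.Geometrically.Integral
import Mathlib.AlgebraicGeometry.AlgClosed.Basic

/-!
# Almost homogeneous varieties
-/

set_option autoImplicit false
set_option linter.style.haveILetI false
set_option backward.isDefEq.respectTransparency false

universe u

open CategoryTheory CategoryTheory.Limits MonoidalCategory CartesianMonoidalCategory AlgebraicGeometry
open TopologicalSpace Topology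
open scoped MonObj

noncomputable section

namespace OrbitLib

open Groth.Agent.GrpField

variable {k : Type u} [Field k]

/-- Points over an algebraically closed field lift into open subsets meeting the fibre. -/
theorem exists_lift_point {T A B : Over (Spec (CommRingCat.of k))} (hT : AlgPt T) (f : A ⟶ B)
    [LocallyOfFiniteType f.left] (u : T ⟶ B) {O : Set A.left} (hO : IsOpen O) (p : T.left)
    (h : ∃ a ∈ O, f.left a = u.left p) : ∃ v : T ⟶ A, v ≫ f = u ∧ v.left p ∈ O := by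
  haveI := hT.fieldPt.subsingleton
  obtain ⟨K, _, _, ⟨e⟩⟩ := hT
  let u' : Spec (CommRingCat.of K) ⟶ B.left := e.inv ≫ u.left
  let P := Limits.pullback f.left u'
  let q : P ⟶ Spec (CommRingCat.of K) := pullback.snd f.left u'
  haveI : JacobsonSpace P := LocallyOfFiniteType.jacobsonSpace q
  have hO' : IsOpen ((pullback.fst f.left u') ⁻¹' O) := hO.preimage (pullback.fst f.left u').continuous
  obtain ⟨a, ha, hau⟩ := h
  obtain ⟨z, hz1, -⟩ := Scheme.Pullback.exists_preimage_pullback (f := f.left) (g := u') a (e.hom p)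
    (by rw [hau, ← Scheme.Hom.comp_apply, Iso.hom_inv_id_assoc])
  obtain ⟨z₁, hz₁, hz₁c⟩ := nonempty_inter_closedPoints (Z := (pullback.fst f.left u') ⁻¹' O)
    ⟨z, show _ ∈ O from hz1 ▸ ha⟩ hO'.isLocallyClosed
  let σ := pointOfClosedPoint q z₁ hz₁c
  have hσ : σ ≫ q = 𝟙 _ := pointOfClosedPoint_comp _ _ _
  have hσ' : σ ≫ pullback.fst f.left u' ≫ f.left = u' := by
    rw [pullback.condition, reassoc_of% hσ]
  let v : T ⟶ A := Over.homMk (e.hom ≫ σ ≫ pullback.fst f.left u') (by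
    rw [Category.assoc, Category.assoc, ← Over.w f, reassoc_of% hσ', Category.assoc, Iso.hom_inv_id_assoc, Over.w u])
  refine ⟨v, Over.OverMorphism.ext ?_, ?_⟩
  · show (e.hom ≫ σ ≫ pullback.fst f.left u') ≫ f.left = u.left
    rw [Category.assoc, Category.assoc, hσ', Iso.hom_inv_id_assoc]
  · show (e.hom ≫ σ ≫ pullback.fst f.left u') p ∈ O
    rw [Scheme.Hom.comp_apply, Scheme.Hom.comp_apply, pointOfClosedPoint_apply]
    exact hz₁

variable {G X : Over (Spec (CommRingCat.of k))} [GrpObj G] (a : AlgGrp.Action G X)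

/-- The inclusion of an open subscheme, over the base. -/
abbrev openι (U : X.left.Opens) : Over.mk (U.ι ≫ X.hom) ⟶ X := Over.homMk U.ι rfl

/-- A stable open subscheme is acted on. -/
theorem exists_restrict_action (U : X.left.Opens)
    (hU : a.act.left '' ((snd G X).left ⁻¹' (U : Set X.left)) ⊆ U) :
    ∃ b : AlgGrp.Action G (Over.mk (U.ι ≫ X.hom)), (G ◁ openι U) ≫ a.act = b.act ≫ openι U := by
  have hr : Set.range ((G ◁ openι U) ≫ a.act).left ⊆ Set.range U.ι := by
    rw [Scheme.Opens.range_ι]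
    rintro _ ⟨w, rfl⟩
    refine hU ⟨(G ◁ openι U).left w, ?_, ?_⟩
    · rw [Set.mem_preimage, ← Scheme.Hom.comp_apply, ← Over.comp_left, whiskerLeft_snd, Over.comp_left,
        Scheme.Hom.comp_apply]
      exact ((snd G (Over.mk (U.ι ≫ X.hom))).left w).2
    · rw [Over.comp_left, Scheme.Hom.comp_apply]
  let l := IsOpenImmersion.lift U.ι _ hr
  have hl : l ≫ U.ι = ((G ◁ openι U) ≫ a.act).left := IsOpenImmersion.lift_fac _ _ _
  let act' : G ⊗ Over.mk (U.ι ≫ X.hom) ⟶ Over.mk (U.ι ≫ X.hom) := Over.homMk l (by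
    show l ≫ U.ι ≫ X.hom = _
    rw [reassoc_of% hl, Over.w])
  have hact : act' ≫ openι U = (G ◁ openι U) ≫ a.act := Over.OverMorphism.ext hl
  haveI : Mono (openι U) := by
    haveI : Mono (openι U).left := inferInstanceAs (Mono U.ι)
    exact Over.mono_of_mono_left _
  refine ⟨{ act := act', one_act := ?_, mul_act := ?_ }, hact.symm⟩
  · rw [← cancel_mono (openι U), Category.assoc, hact, ← whisker_exchange_assoc, a.one_act, leftUnitor_naturality]
  · rw [← cancel_mono (openι U), Category.assoc, hact, ← whisker_exchange_assoc, a.mul_act,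
      tensor_whiskerLeft, Category.assoc, Category.assoc, Iso.inv_hom_id_assoc, ← whiskerLeft_comp_assoc,
      ← hact, whiskerLeft_comp_assoc, Category.assoc, Category.assoc, hact]

/-- `U` is a stable open subscheme on which the action is transitive. -/
abbrev IsHomogOpen (U : X.left.Opens) : Prop :=
  (U : Set ↥X.left).Nonempty ∧ ∃ b : AlgGrp.Action G (Over.mk (U.ι ≫ X.hom)),
    (G ◁ openι U) ≫ a.act = b.act ≫ openι U ∧
    Surjective (lift (snd G (Over.mk (U.ι ≫ X.hom))) b.act).left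

theorem apply_act {U : X.left.Opens} {b : AlgGrp.Action G (Over.mk (U.ι ≫ X.hom))}
    (hb : (G ◁ openι U) ≫ a.act = b.act ≫ openι U) (w : (G ⊗ Over.mk (U.ι ≫ X.hom)).left) :
    a.act.left ((G ◁ openι U).left w) = U.ι (b.act.left w) := by
  rw [← Scheme.Hom.comp_apply, ← Over.comp_left, hb, Over.comp_left, Scheme.Hom.comp_apply]
  rfl

theorem stable_of_homog {U : X.left.Opens} (h : IsHomogOpen a U) :
    a.act.left '' ((snd G X).left ⁻¹' (U : Set X.left)) ⊆ U := by
  obtain ⟨-, b, hb, -⟩ := h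
  rintro _ ⟨w, hw, rfl⟩
  obtain ⟨v, hv, -⟩ := Scheme.exists_preimage_of_isPullback
    (Groth.Agent.FinHom.isPullback_whiskerLeft G (openι U)) w ⟨_, hw⟩ (by rw [← Over.snd_left]; rfl)
  rw [← hv, apply_act a hb]
  exact (b.act.left v).2

theorem exists_graph_mem {U : X.left.Opens} (h : IsHomogOpen a U) {z u : X.left} (hz : z ∈ U) (hu : u ∈ U) :
    ∃ w : (G ⊗ X).left, (snd G X).left w = z ∧ a.act.left w = u := by
  obtain ⟨-, b, hb, hs⟩ := h
  haveI : Subsingleton ↥(Spec (CommRingCat.of k)) := inferInstanceAs (Subsingleton (PrimeSpectrum k))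
  obtain ⟨q, hq1, hq2⟩ := Scheme.Pullback.exists_preimage_pullback (f := U.ι ≫ X.hom) (g := U.ι ≫ X.hom)
    ⟨z, hz⟩ ⟨u, hu⟩ (Subsingleton.elim _ _)
  obtain ⟨w, hw⟩ := hs.surj q
  have h1 : (snd G (Over.mk (U.ι ≫ X.hom))).left w = ⟨z, hz⟩ := by
    refine Eq.trans ?_ ((congrArg (pullback.fst (U.ι ≫ X.hom) (U.ι ≫ X.hom)) hw).trans hq1)
    exact congr($(congrArg Over.Hom.left (lift_fst (snd G (Over.mk (U.ι ≫ X.hom))) b.act).symm) w)
  have h2 : b.act.left w = ⟨u, hu⟩ := by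
    refine Eq.trans ?_ ((congrArg (pullback.snd (U.ι ≫ X.hom) (U.ι ≫ X.hom)) hw).trans hq2)
    exact congr($(congrArg Over.Hom.left (lift_snd (snd G (Over.mk (U.ι ≫ X.hom))) b.act).symm) w)
  refine ⟨(G ◁ openι U).left w, ?_, ?_⟩
  · rw [← Scheme.Hom.comp_apply, ← Over.comp_left, whiskerLeft_snd, Over.comp_left, Scheme.Hom.comp_apply, h1]
    rfl
  · rw [apply_act a hb, h2]
    rfl

theorem homog_unique [IrreducibleSpace X.left] {U U' : X.left.Opens} (h : IsHomogOpen a U) (h' : IsHomogOpen a U') :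
    U = U' := by
  suffices ∀ {U U' : X.left.Opens}, IsHomogOpen a U → IsHomogOpen a U' → U ≤ U' from le_antisymm (this h h') (this h' h)
  intro U U' h h' u hu
  obtain ⟨z, hzU, hzU'⟩ := nonempty_preirreducible_inter U.2 U'.2 h.1 h'.1
  obtain ⟨w, hw1, hw2⟩ := exists_graph_mem a h hzU hu
  exact stable_of_homog a h' ⟨w, show (snd G X).left w ∈ U' from hw1 ▸ hzU', hw2⟩

variable [GeometricallyIntegral X.hom]

theorem irreducibleSpace_tensor {T : Over (Spec (CommRingCat.of k))} [IrreducibleSpace T.left] :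
    IrreducibleSpace (X ⊗ T).left :=
  haveI := universallyOpen_field X.hom
  inferInstanceAs (IrreducibleSpace ↥(pullback X.hom T.hom))

theorem irreducibleSpace_self : IrreducibleSpace X.left :=
  haveI : Subsingleton ↥(Spec (CommRingCat.of k)) := inferInstanceAs (Subsingleton (PrimeSpectrum k))
  haveI : Nonempty ↥(Spec (CommRingCat.of k)) := inferInstanceAs (Nonempty (PrimeSpectrum k))
  GeometricallyIrreducible.irreducibleSpace_of_subsingleton X.hom

theorem isDominant_of_homog {U : X.left.Opens} (h : IsHomogOpen a U) : IsDominant (lift (snd G X) a.act).left := by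
  obtain ⟨hne, b, hb, hs⟩ := h
  haveI := irreducibleSpace_self (X := X)
  haveI := irreducibleSpace_tensor (X := X) (T := X)
  let O : Set (X ⊗ X).left := (fst X X).left ⁻¹' U ∩ (snd X X).left ⁻¹' U
  have hO : IsOpen O :=
    (U.2.preimage (fst X X).left.continuous).inter (U.2.preimage (snd X X).left.continuous)
  have hsub : O ⊆ Set.range (lift (snd G X) a.act).left := by
    rintro q ⟨hq1, hq2⟩
    let f : (G ⊗ Over.mk (U.ι ≫ X.hom)) ⟶ X ⊗ X := lift (snd G (Over.mk (U.ι ≫ X.hom))) b.act ≫ (openι U ⊗ₘ openι U)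
    have hf : f = (G ◁ openι U) ≫ lift (snd G X) a.act := by
      simp only [f]
      rw [lift_map, comp_lift, whiskerLeft_snd, hb]
    haveI : IsOpenImmersion (openι U ⊗ₘ openι U).left := by
      haveI : IsOpenImmersion (openι U).left := inferInstanceAs (IsOpenImmersion U.ι)
      rw [MonoidalCategory.tensorHom_def, Over.comp_left]
      haveI : IsOpenImmersion (openι U ▷ Over.mk (U.ι ≫ X.hom)).left := by
        rw [show openι U ▷ Over.mk (U.ι ≫ X.hom) = (β_ _ _).hom ≫ (Over.mk (U.ι ≫ X.hom) ◁ openι U) ≫ (β_ _ _).hom by simp,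
          Over.comp_left, Over.comp_left]
        haveI := Groth.Agent.FinHom.isOpenImmersion_whiskerLeft (Over.mk (U.ι ≫ X.hom)) (openι U)
        haveI : IsIso (β_ (Over.mk (U.ι ≫ X.hom)) (Over.mk (U.ι ≫ X.hom))).hom.left :=
          inferInstanceAs (IsIso ((Over.forget _).map (β_ (Over.mk (U.ι ≫ X.hom)) (Over.mk (U.ι ≫ X.hom))).hom))
        haveI : IsIso (β_ (Over.mk (U.ι ≫ X.hom)) X).hom.left :=
          inferInstanceAs (IsIso ((Over.forget _).map (β_ (Over.mk (U.ι ≫ X.hom)) X).hom))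
        infer_instance
      haveI := Groth.Agent.FinHom.isOpenImmersion_whiskerLeft X (openι U)
      infer_instance
    obtain ⟨q', hq'⟩ : q ∈ Set.range (openι U ⊗ₘ openι U).left := by
      haveI : Subsingleton ↥(Spec (CommRingCat.of k)) := inferInstanceAs (Subsingleton (PrimeSpectrum k))
      let l : Over.mk (U.ι ≫ X.hom) ⊗ Over.mk (U.ι ≫ X.hom) ⟶ X ⊗ X := openι U ⊗ₘ openι U
      let W : (X ⊗ X).left.Opens := ⟨O, hO⟩
      let j₁ : Over.mk (W.ι ≫ (X ⊗ X).hom) ⟶ Over.mk (U.ι ≫ X.hom) := Over.homMk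
        (IsOpenImmersion.lift U.ι (W.ι ≫ (fst X X).left) (by
          rintro _ ⟨w, rfl⟩; exact ⟨⟨_, w.2.1⟩, rfl⟩))
        (by show _ ≫ U.ι ≫ X.hom = W.ι ≫ (X ⊗ X).hom; rw [IsOpenImmersion.lift_fac_assoc, Category.assoc, Over.w])
      let j₂ : Over.mk (W.ι ≫ (X ⊗ X).hom) ⟶ Over.mk (U.ι ≫ X.hom) := Over.homMk
        (IsOpenImmersion.lift U.ι (W.ι ≫ (snd X X).left) (by
          rintro _ ⟨w, rfl⟩; exact ⟨⟨_, w.2.2⟩, rfl⟩))
        (by show _ ≫ U.ι ≫ X.hom = W.ι ≫ (X ⊗ X).hom; rw [IsOpenImmersion.lift_fac_assoc, Category.assoc, Over.w])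
      have hj : lift j₁ j₂ ≫ l = Over.homMk W.ι rfl := by
        simp only [l, lift_map]
        refine CartesianMonoidalCategory.hom_ext _ _ ?_ ?_
        · rw [lift_fst]; exact Over.OverMorphism.ext (IsOpenImmersion.lift_fac _ _ _)
        · rw [lift_snd]; exact Over.OverMorphism.ext (IsOpenImmersion.lift_fac _ _ _)
      refine ⟨(lift j₁ j₂).left ⟨q, hq1, hq2⟩, ?_⟩
      rw [← Scheme.Hom.comp_apply, ← Over.comp_left, hj]
      rfl
    obtain ⟨w, hw⟩ := hs.surj q'
    refine ⟨(G ◁ openι U).left w, ?_⟩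
    rw [← Scheme.Hom.comp_apply, ← Over.comp_left, ← hf, Over.comp_left, Scheme.Hom.comp_apply, hw, hq']
  refine ⟨?_⟩
  obtain ⟨u, hu⟩ := hne
  haveI : Subsingleton ↥(Spec (CommRingCat.of k)) := inferInstanceAs (Subsingleton (PrimeSpectrum k))
  obtain ⟨q, hq1, hq2⟩ := Scheme.Pullback.exists_preimage_pullback (f := X.hom) (g := X.hom) u u rfl
  have hOne : O.Nonempty := ⟨q, show _ ∈ U by rw [Over.fst_left]; exact hq1 ▸ hu, show _ ∈ U by rw [Over.snd_left]; exact hq2 ▸ hu⟩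
  exact (hO.dense hOne).mono hsub

theorem exists_homog [LocallyOfFiniteType G.hom] [QuasiCompact G.hom] [LocallyOfFiniteType X.hom]
    [QuasiCompact X.hom] [hd : IsDominant (lift (snd G X) a.act).left] : ∃ U : X.left.Opens, IsHomogOpen a U := by
  haveI := irreducibleSpace_self (X := X)
  haveI := irreducibleSpace_tensor (X := X) (T := X)
  haveI : LocallyOfFiniteType (X ⊗ X).hom := inferInstanceAs (LocallyOfFiniteType (pullback.fst X.hom X.hom ≫ X.hom))
  haveI : QuasiCompact (X ⊗ X).hom := inferInstanceAs (QuasiCompact (pullback.fst X.hom X.hom ≫ X.hom))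
  haveI : LocallyOfFiniteType (G ⊗ X).hom := inferInstanceAs (LocallyOfFiniteType (pullback.fst G.hom X.hom ≫ G.hom))
  haveI : QuasiCompact (G ⊗ X).hom := inferInstanceAs (QuasiCompact (pullback.fst G.hom X.hom ≫ G.hom))
  haveI : CompactSpace (X ⊗ X).left := QuasiCompact.compactSpace_of_compactSpace (X ⊗ X).hom
  haveI : CompactSpace (G ⊗ X).left := QuasiCompact.compactSpace_of_compactSpace (G ⊗ X).hom
  haveI : IsLocallyNoetherian (X ⊗ X).left := LocallyOfFiniteType.isLocallyNoetherian (X ⊗ X).hom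
  haveI : IsNoetherian (X ⊗ X).left := {}
  let Ψ := (lift (snd G X) a.act)
  haveI : LocallyOfFiniteType (Ψ.left ≫ (X ⊗ X).hom) := by rw [Over.w]; infer_instance
  haveI : LocallyOfFiniteType Ψ.left := locallyOfFiniteType_of_comp _ (X ⊗ X).hom
  haveI : QuasiCompact Ψ.left := quasiCompact_of_compactSpace _
  have hC : IsConstructible (Set.range Ψ.left) := by
    rw [← Set.image_univ]
    exact Ψ.left.isConstructible_image IsConstructible.univ
  obtain ⟨P, hPf, hP, hPC⟩ := SweepSix.exists_isLocallyClosed_pieces hC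
  obtain ⟨P, rfl⟩ := hPf.exists_finset_coe
  obtain ⟨Ω, hΩ, hΩne, hΩsub⟩ := exists_open_inter_closure P hP (hPC ▸ by
    have := hd.denseRange.nonempty
    exact Set.range_nonempty_iff_nonempty.mpr this)
  rw [← hPC] at hΩne hΩsub
  rw [hd.denseRange.closure_range, Set.inter_univ] at hΩsub
  haveI : UniversallyOpen (fst X X).left := universallyOpen_fst X
  let U₁ : Set X.left := (fst X X).left '' Ω
  have hU₁ : IsOpen U₁ := (fst X X).left.isOpenMap _ hΩ
  obtain ⟨hUo, hU₁U, hst⟩ := least_stable_open a U₁ hU₁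
  let U : X.left.Opens := ⟨_, hUo⟩
  obtain ⟨b, hb⟩ := exists_restrict_action a U hst
  refine ⟨U, ?_, b, hb, ⟨fun q => ?_⟩⟩
  · obtain ⟨w, hw, -⟩ := hΩne
    exact ⟨_, hU₁U ⟨w, hw, rfl⟩⟩
  obtain ⟨K, _, _, σ, hσ⟩ := exists_geomPoint q
  let UO := Over.mk (U.ι ≫ X.hom)
  let T : Over (Spec (CommRingCat.of k)) := Over.mk (σ ≫ (UO ⊗ UO).hom)
  have hT : AlgPt T := algPt_mk _
  let s : T ⟶ UO ⊗ UO := Over.homMk σ rfl
  haveI := hT.fieldPt.subsingleton
  obtain ⟨p⟩ := hT.fieldPt.nonempty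
  -- every point of `U` is a translate of a point with a big orbit
  have hgood : ∀ v : T ⟶ X, v.left p ∈ U → ∃ (h : T ⟶ G) (y : T ⟶ X), lift h y ≫ a.act = v ∧
      ∃ z : (X ⊗ X).left, z ∈ Ω ∧ (fst X X).left z = y.left p := by
    rintro v ⟨w, hw, hwv⟩
    haveI : LocallyOfFiniteType a.act.left := GrpShear.act_prop a @LocallyOfFiniteType ‹_›
    obtain ⟨hy, e, hmem⟩ := exists_lift_point hT a.act v (O := (snd G X).left ⁻¹' U₁)
      (hU₁.preimage (snd G X).left.continuous) p ⟨w, hw, hwv⟩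
    obtain ⟨z, hz, hz'⟩ := hmem
    refine ⟨hy ≫ fst G X, hy ≫ snd G X, by rw [← comp_lift, lift_fst_snd, Category.comp_id, e], z, hz, ?_⟩
    rw [hz', Over.comp_left, Scheme.Hom.comp_apply]
  obtain ⟨h₁, y₁, e₁, z₁, hz₁, hz₁'⟩ := hgood (s ≫ fst UO UO ≫ openι U) (((fst UO UO).left (σ p))).2
  obtain ⟨h₂, y₂, e₂, z₂, hz₂, hz₂'⟩ := hgood (s ≫ snd UO UO ≫ openι U) (((snd UO UO).left (σ p))).2
  haveI : IrreducibleSpace T.left :=
    { toNonempty := ⟨p⟩, isPreirreducible_univ := Set.subsingleton_univ.isPreirreducible }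
  haveI := irreducibleSpace_tensor (X := X) (T := T)
  let j : ∀ y : T ⟶ X, X ⊗ T ⟶ X ⊗ X := fun y => lift (snd X T ≫ y) (fst X T)
  have hne : ∀ (y : T ⟶ X) (z : (X ⊗ X).left), z ∈ Ω → (fst X X).left z = y.left p →
      ((j y).left ⁻¹' Ω).Nonempty := by
    intro y z hz hzy
    haveI : LocallyOfFiniteType (fst X X).left := by rw [Over.fst_left]; infer_instance
    obtain ⟨v, hv, hvO⟩ := exists_lift_point hT (fst X X) y hΩ p ⟨z, hz, hzy⟩
    refine ⟨(lift (v ≫ snd X X) (𝟙 T)).left p, ?_⟩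
    rw [Set.mem_preimage, ← Scheme.Hom.comp_apply, ← Over.comp_left]
    convert hvO using 4
    simp only [j]
    rw [comp_lift, lift_snd_assoc, Category.id_comp, lift_fst, ← hv, ← comp_lift, lift_fst_snd, Category.comp_id]
  obtain ⟨c, hc₁, hc₂⟩ := nonempty_preirreducible_inter (hΩ.preimage (j y₁).left.continuous)
    (hΩ.preimage (j y₂).left.continuous) (hne y₁ z₁ hz₁ hz₁') (hne y₂ z₂ hz₂ hz₂')
  haveI : LocallyOfFiniteType (snd X T).left := by rw [Over.snd_left]; infer_instance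
  obtain ⟨c', hc', hc'm⟩ := exists_lift_point hT (snd X T) (𝟙 T)
    (O := (j y₁).left ⁻¹' Ω ∩ (j y₂).left ⁻¹' Ω)
    ((hΩ.preimage (j y₁).left.continuous).inter (hΩ.preimage (j y₂).left.continuous)) p
    ⟨c, ⟨hc₁, hc₂⟩, Subsingleton.elim _ _⟩
  have horb : ∀ y : T ⟶ X, (c' ≫ j y).left p ∈ Ω → ∃ g : T ⟶ G, lift g y ≫ a.act = c' ≫ fst X T := by
    intro y hy
    obtain ⟨w, hw⟩ := hΩsub hy
    obtain ⟨v, hv, -⟩ := exists_lift_point hT Ψ (c' ≫ j y) (O := Set.univ) isOpen_univ p ⟨w, trivial, hw⟩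
    refine ⟨v ≫ fst G X, ?_⟩
    have h1 := congrArg (· ≫ fst X X) hv
    have h2 := congrArg (· ≫ snd X X) hv
    simp only [Ψ, j, Category.assoc, lift_fst, lift_snd, reassoc_of% hc'] at h1 h2
    rw [← h1, ← h2, ← comp_lift, lift_fst_snd, Category.comp_id]
  obtain ⟨g₁, hg₁⟩ := horb y₁ hc'm.1
  obtain ⟨g₂, hg₂⟩ := horb y₂ hc'm.2
  have key : lift (h₂ * g₂⁻¹ * g₁ * h₁⁻¹) (s ≫ fst UO UO ≫ openι U) ≫ a.act = s ≫ snd UO UO ≫ openι U := by
    rw [← e₁, ← GrpShear.lift_mul_act, inv_mul_cancel_right, GrpShear.lift_mul_act a (h₂ * g₂⁻¹) g₁, hg₁, ← hg₂,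
      ← GrpShear.lift_mul_act, inv_mul_cancel_right, e₂]
  haveI : Mono (openι U) := by
    haveI : Mono (openι U).left := inferInstanceAs (Mono U.ι)
    exact Over.mono_of_mono_left _
  have hsurj : lift (h₂ * g₂⁻¹ * g₁ * h₁⁻¹) (s ≫ fst UO UO) ≫ lift (snd G UO) b.act = s := by
    rw [comp_lift, lift_snd]
    refine CartesianMonoidalCategory.hom_ext _ _ (lift_fst _ _) ?_
    rw [lift_snd, ← cancel_mono (openι U), Category.assoc, ← hb, lift_whiskerLeft_assoc]
    simpa only [Category.assoc] using key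
  refine ⟨(lift (h₂ * g₂⁻¹ * g₁ * h₁⁻¹) (s ≫ fst UO UO)).left p, ?_⟩
  rw [← Scheme.Hom.comp_apply, ← Over.comp_left, hsurj]
  exact hσ p

theorem isDominant_iff_homog [LocallyOfFiniteType G.hom] [QuasiCompact G.hom] [LocallyOfFiniteType X.hom]
    [QuasiCompact X.hom] :
    (IsDominant (lift (snd G X) a.act).left ↔ ∃ U : X.left.Opens, IsHomogOpen a U) ∧
      ∀ U U' : X.left.Opens, IsHomogOpen a U → IsHomogOpen a U' → U = U' :=
  haveI := irreducibleSpace_self (X := X)
  ⟨⟨fun _ => exists_homog a, fun ⟨_, h⟩ => isDominant_of_homog a h⟩, fun _ _ => homog_unique a⟩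

end OrbitLib
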