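import Groth.Agent.OrbitLib.ToAffine
import Groth.Prelude

/-!
# Dominant homomorphisms to affine groups are faithfully flat
-/

set_option autoImplicit false
set_option linter.style.haveILetI false
set_option backward.isDefEq.respectTransparency false

universe u

open CategoryTheory CategoryTheory.Limits MonoidalCategory CartesianMonoidalCategory AlgebraicGeometry CoactBr
open scoped MonObj

noncomputable section

namespace OrbitLib.ToAffine

variable {k : Type u} [Field k]

theorem exists_sp (G' : Over (Spec (CommRingCat.of k))) [GrpObj G'] [IsAffine G'.left] :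
    ∃ (A : Type u) (_ : CommRing A) (_ : HopfAlgebra k A) (v : sp k A ≅ G'), IsMonHom v.hom ∧ IsMonHom v.inv := by
  obtain ⟨H, ⟨e⟩⟩ : (hopfSpec (CommRingCat.of k)).essImage (Grp.mk G') :=
    (essImage_hopfSpec (R := CommRingCat.of k) (G := Grp.mk G')).2 inferInstance
  exact ⟨H.unop.X, H.unop.commRing, H.unop.hopfAlgebra, (Grp.forget _).mapIso e,
    e.hom.hom.isMonHom_hom, e.inv.hom.isMonHom_hom⟩

theorem flat_surjective_finiteType (G G' : Over (Spec (CommRingCat.of k))) [GrpObj G] [GrpObj G']
    [LocallyOfFiniteType G.hom] [QuasiCompact G.hom] [IsAffine G'.left]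
    (u : G ⟶ G') [IsMonHom u] (hdom : u.left.ker = ⊥) :
    Flat u.left ∧ Surjective u.left ∧ LocallyOfFiniteType G'.hom := by
  obtain ⟨A, _, _, v, hv, hv'⟩ := exists_sp G'
  haveI := hv; haveI := hv'
  haveI : IsIso v.inv.left := inferInstanceAs (IsIso ((Over.forget _).map v.inv))
  haveI : IsIso v.hom.left := inferInstanceAs (IsIso ((Over.forget _).map v.hom))
  have hker : (u ≫ v.inv).left.ker = ⊥ := by
    haveI : IsSchemeTheoreticallyDominant u.left := ⟨hdom⟩
    exact (u.left ≫ v.inv.left).ker_eq_bot
  obtain ⟨hf, hs, hfin⟩ := finiteType_of_dominant (u ≫ v.inv) hker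
  haveI := hf; haveI := hs
  have eu : u.left = (u ≫ v.inv).left ≫ v.hom.left := by
    rw [← Over.comp_left, Category.assoc, v.inv_hom_id, Category.comp_id]
  haveI : LocallyOfFiniteType (sp k A).hom := by
    show LocallyOfFiniteType (Spec.map (CommRingCat.ofHom (algebraMap k A)))
    rw [HasRingHomProperty.Spec_iff (P := @LocallyOfFiniteType)]
    exact RingHom.finiteType_algebraMap.mpr hfin
  refine ⟨?_, ?_, ?_⟩
  · rw [eu]; infer_instance
  · rw [eu]; infer_instance
  · rw [← Over.w v.inv]; infer_instance

end OrbitLib.ToAffine
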