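import Groth.Agent.OrbitLib.Proper
import Groth.Prelude

/-!
# Properness of `psi` at a rational point
-/

set_option autoImplicit false
set_option linter.style.haveILetI false
set_option backward.isDefEq.respectTransparency false

universe u

open CategoryTheory CategoryTheory.Limits MonoidalCategory CartesianMonoidalCategory AlgebraicGeometry
open scoped MonObj

noncomputable section

namespace OrbitLib

variable {k : Type u} [Field k] {G X : Over (Spec (CommRingCat.of k))} [GrpObj G] (a : AlgGrp.Action G X)
  (x : 𝟙_ (Over (Spec (CommRingCat.of k))) ⟶ X)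

theorem psi_eq : GIT.psi a x = (ρ_ G).hom ≫ a.orbitMap x ≫ lift (𝟙 X) (toUnit X) := by
  refine CartesianMonoidalCategory.hom_ext _ _ ?_ (toUnit_unique _ _)
  rw [GIT.psi, lift_fst, Category.assoc, Category.assoc, lift_fst, Category.comp_id, AlgGrp.Action.orbitMap,
    ← Category.assoc]
  congr 1
  refine CartesianMonoidalCategory.hom_ext _ _ (by simp [rightUnitor_hom]) ?_
  rw [whiskerLeft_snd, Category.assoc, lift_snd, ← Category.assoc, toUnit_unique ((ρ_ G).hom ≫ toUnit G) (snd G _)]

theorem isProper_psi_iff [LocallyOfFiniteType G.hom] [QuasiCompact G.hom] [LocallyOfFiniteType X.hom] :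
    IsProper (GIT.psi a x).left ↔ IsClosed (Set.range (GIT.psi a x).left) ∧
      IsProper (pullback.snd (GIT.psi a x).left (lift x (𝟙 (𝟙_ (Over (Spec (CommRingCat.of k)))))).left ≫
        (𝟙_ (Over (Spec (CommRingCat.of k)))).hom) := by
  let ι₂ : X ⟶ X ⊗ 𝟙_ _ := lift (𝟙 X) (toUnit X)
  haveI : IsIso ι₂ := ⟨fst X _, lift_fst _ _, CartesianMonoidalCategory.hom_ext _ _ (by simp [ι₂]) (toUnit_unique _ _)⟩
  haveI : IsIso ι₂.left := inferInstanceAs (IsIso ((Over.forget _).map ι₂))
  haveI : IsIso (ρ_ G).hom.left := inferInstanceAs (IsIso ((Over.forget _).map (ρ_ G).hom))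
  have hl : (GIT.psi a x).left = (ρ_ G).hom.left ≫ (a.orbitMap x).left ≫ ι₂.left := by
    rw [psi_eq, Over.comp_left, Over.comp_left]
  constructor
  · intro h
    refine ⟨(GIT.psi a x).left.isClosedMap.isClosed_range, ?_⟩
    haveI : IsProper (𝟙_ (Over (Spec (CommRingCat.of k)))).hom :=
      inferInstanceAs (IsProper (𝟙 (Spec (CommRingCat.of k))))
    infer_instance
  · rintro ⟨hc, hp⟩
    have hclosed : IsClosed (orbit a x) := by
      have e : orbit a x = ι₂.left ⁻¹' Set.range (GIT.psi a x).left := by
        rw [hl, Scheme.Hom.comp_base, Scheme.Hom.comp_base, TopCat.coe_comp, TopCat.coe_comp, Set.range_comp,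
          ((ρ_ G).hom.left).surjective.range_eq, Set.image_univ, Set.range_comp,
          Set.preimage_image_eq _ ι₂.left.isOpenEmbedding.injective]
        rfl
      rw [e]
      exact hc.preimage ι₂.left.continuous
    have hst : IsProper (pullback (a.orbitMap x) x).hom := by
      have e1 : x ≫ ι₂ = lift x (𝟙 _) := by
        refine CartesianMonoidalCategory.hom_ext _ _ (by simp [ι₂]) (toUnit_unique _ _)
      have h1 : IsPullback ((pullback.fst (a.orbitMap x) x).left ≫ inv (ρ_ G).hom.left)
          (pullback.snd (a.orbitMap x) x).left (GIT.psi a x).left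
          (lift x (𝟙 (𝟙_ (Over (Spec (CommRingCat.of k)))))).left := by
        refine ((IsPullback.of_hasPullback (a.orbitMap x) x).map (Over.forget _)).of_iso (Iso.refl _)
          (asIso (ρ_ G).hom.left).symm (Iso.refl _) (asIso ι₂.left) ?_ ?_ ?_ ?_
        · simp
        · simp
        · rw [hl]; simp
        · rw [← e1, Over.comp_left]; simp
      rw [← Over.w (pullback.snd (a.orbitMap x) x), ← h1.isoPullback_hom_snd, Category.assoc]
      infer_instance
    haveI := isProper_orbitMap a x hclosed hst
    rw [hl]
    infer_instance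

end OrbitLib
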