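import Groth.Agent.GrpHomLib.FlatImage
import Groth.Agent.GrpHomLib.Field
import Groth.Agent.TorusFieldLib.Scheme
import Groth.Agent.HopfFFLib.SubHopf
import Groth.Agent.HopfFFLib.Consequences
import Groth.Agent.S7962
import Groth.Agent.S4362
import Groth.Agent.MonoQuotLib.Orbit
import Groth.Agent.GrpFieldLib.Comps

/-!
# Dominant homomorphisms from algebraic groups to affine groups
-/

set_option autoImplicit false
set_option linter.style.haveILetI false
set_option backward.isDefEq.respectTransparency false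
set_option maxHeartbeats 1600000

universe u

open CategoryTheory CategoryTheory.Limits MonoidalCategory CartesianMonoidalCategory AlgebraicGeometry CoactBr
open Groth.Agent.HopfFF
open scoped MonObj

noncomputable section

namespace OrbitLib.ToAffine

variable {k : Type u} [Field k]

/-- A finitely generated sub-Hopf-algebra. -/
structure Sub (k : Type u) [Field k] (B : Type u) [CommRing B] [HopfAlgebra k B] where
  alg : Subalgebra k B
  fg : alg.FG
  hopf : IsSubHopf k B alg

variable {B : Type u} [CommRing B] [HopfAlgebra k B]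

theorem pt_left {C D : Type u} [CommRing C] [CommRing D] [Algebra k C] [Algebra k D] (φ : C →ₐ[k] D) :
    (pt φ).left = Spec.map (CommRingCat.ofHom φ.toRingHom) := rfl

instance instHopfSub (S : Sub k B) : HopfAlgebra k S.alg := Groth.Agent.HopfFF.hopfAlgebra S.hopf

instance instFTSub (S : Sub k B) : Algebra.FiniteType k S.alg := (Subalgebra.fg_iff_finiteType _).1 S.fg

theorem ker_SpecMap_eq_bot {R S : CommRingCat.{u}} (φ : R ⟶ S) (h : Function.Injective φ) :
    (Spec.map φ).ker = ⊥ := by
  refine Scheme.IdealSheafData.ext_of_isAffine ?_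
  rw [Scheme.Hom.ker_apply, Scheme.IdealSheafData.ideal_bot]
  refine eq_bot_iff.2 fun a ha => Ideal.mem_bot.2 ?_
  apply ((Scheme.ΓSpecIso R).commRingCatIsoToRingEquiv).injective
  apply h
  rw [map_zero, map_zero]
  have e := congr($(Scheme.ΓSpecIso_naturality φ) a)
  simp only [CommRingCat.comp_apply] at e
  exact e.symm.trans ((congrArg _ (show (Spec.map φ).appTop a = 0 from ha)).trans (map_zero _))

theorem hopf_val (S : Sub k B) : IsMonHom (pt S.alg.val) :=
  Groth.Agent.DiagRep.isMonHom_pt _ rfl (AlgHom.ext fun b => map_δB S.hopf b)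

theorem flat_to_field {X : Scheme.{u}} (f : X ⟶ Spec (CommRingCat.of k)) : Flat f :=
  Groth.Agent.GrpField.flat_field f

variable {G : Over (Spec (CommRingCat.of k))} [GrpObj G] [LocallyOfFiniteType G.hom] [QuasiCompact G.hom]

theorem isClosedImmersion_ker {H : Over (Spec (CommRingCat.of k))} [GrpObj H] [LocallyOfFiniteType H.hom] (u : G ⟶ H) :
    IsClosedImmersion (pullback.fst u (η[H] : 𝟙_ (Over (Spec (CommRingCat.of k))) ⟶ H)).left := by
  haveI : IsSeparated H.hom := Groth.Agent.GrpField.isSeparated_grp (G := H)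
  haveI : IsClosedImmersion (η[H] : 𝟙_ (Over (Spec (CommRingCat.of k))) ⟶ H).left := inferInstance
  exact MorphismProperty.of_isPullback (P := @IsClosedImmersion)
    ((IsPullback.of_hasPullback u η[H]).map (Over.forget _)).flip ‹IsClosedImmersion (η[H] : 𝟙_ (Over (Spec (CommRingCat.of k))) ⟶ H).left›

/-- A dominant homomorphism to an algebraic group is faithfully flat. -/
theorem flat_surjective_of_dominant {H : Over (Spec (CommRingCat.of k))} [GrpObj H] [LocallyOfFiniteType H.hom]
    (u : G ⟶ H) [IsMonHom u] [QuasiCompact u.left] (hu : u.left.ker = ⊥) :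
    Flat u.left ∧ Surjective u.left ∧ LocallyOfFinitePresentation u.left := by
  haveI : Flat G.hom := flat_to_field G.hom
  obtain ⟨C, _, p, i, _, _, hpi, hf, hs, hl, hi⟩ := Groth.Agent.GrpHom.exists_fppf_image u (by
    exact flat_to_field (k := k) _)
  haveI := hi
  have hker : i.left.ker = ⊥ := le_bot_iff.1 ((p.left.le_ker_comp i.left).trans (by rw [← Over.comp_left, hpi, hu]))
  haveI : IsIso i.left := IsClosedImmersion.isIso_iff_ker_eq_bot.2 hker
  haveI := hf; haveI := hs; haveI := hl
  rw [← hpi, Over.comp_left]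
  exact ⟨inferInstance, inferInstance, inferInstance⟩

theorem hopf_inclusion {S T : Sub k B} (h : S.alg ≤ T.alg) : IsMonHom (pt (Subalgebra.inclusion h)) := by
  refine Groth.Agent.DiagRep.isMonHom_pt _ rfl (AlgHom.ext fun b => ?_)
  apply map_val_injective T.alg
  show Algebra.TensorProduct.map T.alg.val T.alg.val
      (Algebra.TensorProduct.map (Subalgebra.inclusion h) (Subalgebra.inclusion h) (δB S.hopf b)) =
    Algebra.TensorProduct.map T.alg.val T.alg.val (δB T.hopf (Subalgebra.inclusion h b))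
  rw [map_δB, ← AlgHom.comp_apply, ← Algebra.TensorProduct.map_comp]
  exact map_δB S.hopf b

instance lft_sub (S : Sub k B) : LocallyOfFiniteType (sp k S.alg).hom := by
  show LocallyOfFiniteType (Spec.map (CommRingCat.ofHom (algebraMap k S.alg)))
  rw [HasRingHomProperty.Spec_iff (P := @LocallyOfFiniteType)]
  exact RingHom.finiteType_algebraMap.mpr inferInstance

/-- A homomorphism after which the kernel of a faithfully flat homomorphism does not grow is injective. -/
theorem mono_of_ker_le {H₀ H₁ : Over (Spec (CommRingCat.of k))} [GrpObj H₀] [GrpObj H₁] (u₀ : G ⟶ H₀) (u₁ : G ⟶ H₁)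
    [IsMonHom u₁] (q : H₁ ⟶ H₀) [IsMonHom q] (hq : u₁ ≫ q = u₀) [Flat u₁.left] [Surjective u₁.left]
    [LocallyOfFinitePresentation u₁.left]
    (back : pullback u₀ (η[H₀] : 𝟙_ (Over (Spec (CommRingCat.of k))) ⟶ H₀) ⟶ pullback u₁ η[H₁])
    (hback : back ≫ pullback.fst u₁ η[H₁] = pullback.fst u₀ η[H₀]) : Mono q := by
  have hkill : ∀ {T : Over (Spec (CommRingCat.of k))} (h : T ⟶ G), h ≫ u₀ = 1 → h ≫ u₁ = 1 := by
    intro T h hh
    let h₀ : T ⟶ pullback u₀ η[H₀] := pullback.lift h (toUnit T) (by rw [hh, Hom.one_def])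
    have e : h = (h₀ ≫ back) ≫ pullback.fst u₁ η[H₁] := by
      rw [Category.assoc, hback, pullback.lift_fst]
    rw [e, Category.assoc, pullback.condition, ← Category.assoc, Hom.one_def,
      toUnit_unique ((h₀ ≫ back) ≫ pullback.snd u₁ η[H₁]) (toUnit T)]
  refine ⟨fun {T} g g' hgg => ?_⟩
  have hd : (g⁻¹ * g') ≫ q = 1 := by
    rw [MonObj.mul_comp, GrpObj.inv_comp, hgg, inv_mul_cancel]
  let c : pullback (g⁻¹ * g') u₁ ⟶ T := pullback.fst _ _
  have hsq := (IsPullback.of_hasPullback (g⁻¹ * g') u₁).map (Over.forget _)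
  haveI : Flat c.left := MorphismProperty.of_isPullback (P := @Flat) hsq.flip ‹Flat u₁.left›
  haveI : LocallyOfFinitePresentation c.left :=
    MorphismProperty.of_isPullback (P := @LocallyOfFinitePresentation) hsq.flip ‹LocallyOfFinitePresentation u₁.left›
  haveI : Surjective c.left := MorphismProperty.of_isPullback (P := @Surjective) hsq.flip ‹Surjective u₁.left›
  haveI : Epi c := Groth.Agent.MonoQuot.epi_over c
  have h1 : c ≫ (g⁻¹ * g') = 1 := by
    rw [pullback.condition]
    refine hkill _ ?_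
    rw [← hq, ← Category.assoc, ← pullback.condition, Category.assoc, hd, MonObj.comp_one]
  have h2 : g⁻¹ * g' = 1 := by
    rw [← cancel_epi c, h1, MonObj.comp_one]
  exact inv_mul_eq_one.mp h2

variable (u : G ⟶ sp k B) [IsMonHom u]

/-- The composite to the algebraic group of a sub-Hopf-algebra. -/
abbrev toSub (S : Sub k B) : G ⟶ sp k S.alg := u ≫ pt S.alg.val

theorem qc_toSub (S : Sub k B) : QuasiCompact (toSub u S).left := by
  haveI : CompactSpace G.left := QuasiCompact.compactSpace_of_compactSpace G.hom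
  haveI : QuasiSeparatedSpace ↥(sp k S.alg).left := inferInstanceAs (QuasiSeparatedSpace (Spec (CommRingCat.of S.alg)))
  exact quasiCompact_of_compactSpace _

/-- The ideal of the kernel of `toSub`. -/
abbrev kerId (S : Sub k B) : G.left.IdealSheafData :=
  (pullback.fst (toSub u S) (η[sp k S.alg] : 𝟙_ (Over (Spec (CommRingCat.of k))) ⟶ sp k S.alg)).left.ker

theorem ff_toSub (hu : u.left.ker = ⊥) (S : Sub k B) :
    Flat (toSub u S).left ∧ Surjective (toSub u S).left ∧ LocallyOfFinitePresentation (toSub u S).left := by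
  haveI := hopf_val S
  haveI := qc_toSub u S
  refine flat_surjective_of_dominant (toSub u S) ?_
  haveI : IsSchemeTheoreticallyDominant u.left := ⟨hu⟩
  haveI : IsSchemeTheoreticallyDominant (pt S.alg.val).left := by
    rw [pt_left]
    exact ⟨ker_SpecMap_eq_bot _ Subtype.val_injective⟩
  exact (u.left ≫ (pt S.alg.val).left).ker_eq_bot

theorem kerId_mono {S₀ S₁ : Sub k B} (hle : S₀.alg ≤ S₁.alg) : kerId u S₀ ≤ kerId u S₁ := by
  haveI := hopf_inclusion hle
  have hq : toSub u S₁ ≫ pt (Subalgebra.inclusion hle) = toSub u S₀ := by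
    simp only [toSub, Category.assoc, ← pt_comp]
    rfl
  have hwk : pullback.fst (toSub u S₁) η[sp k S₁.alg] ≫ toSub u S₀ =
      pullback.snd (toSub u S₁) η[sp k S₁.alg] ≫ η[sp k S₀.alg] := by
    rw [← hq, pullback.condition_assoc, IsMonHom.one_hom]
  let l := pullback.lift _ _ hwk
  show _ ≤ (pullback.fst (toSub u S₁) η[sp k S₁.alg]).left.ker
  rw [show pullback.fst (toSub u S₁) η[sp k S₁.alg] = l ≫ pullback.fst (toSub u S₀) η[sp k S₀.alg] from
    (pullback.lift_fst _ _ _).symm, Over.comp_left]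
  exact l.left.le_ker_comp _

theorem le_of_kerId (hu : u.left.ker = ⊥) {S₀ S₁ : Sub k B} (hle : S₀.alg ≤ S₁.alg)
    (hI : kerId u S₁ ≤ kerId u S₀) : S₁.alg ≤ S₀.alg := by
  haveI := hopf_inclusion hle
  haveI := hopf_val S₀
  haveI := hopf_val S₁
  let q : sp k S₁.alg ⟶ sp k S₀.alg := pt (Subalgebra.inclusion hle)
  have hq : toSub u S₁ ≫ q = toSub u S₀ := by
    simp only [toSub, q, Category.assoc, ← pt_comp]
    rfl
  haveI := isClosedImmersion_ker (toSub u S₁)
  haveI := isClosedImmersion_ker (toSub u S₀)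
  let back := IsClosedImmersion.lift (pullback.fst (toSub u S₁) η[sp k S₁.alg]).left
    (pullback.fst (toSub u S₀) η[sp k S₀.alg]).left hI
  have hback : back ≫ (pullback.fst (toSub u S₁) η[sp k S₁.alg]).left =
      (pullback.fst (toSub u S₀) η[sp k S₀.alg]).left := IsClosedImmersion.lift_fac _ _ _
  let backO : pullback (toSub u S₀) η[sp k S₀.alg] ⟶ pullback (toSub u S₁) η[sp k S₁.alg] := Over.homMk back (by
    rw [← Over.w (pullback.fst (toSub u S₁) η[sp k S₁.alg]), reassoc_of% hback, Over.w])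
  obtain ⟨hf₁, hs₁, hl₁⟩ := ff_toSub u hu S₁
  haveI := hf₁; haveI := hs₁; haveI := hl₁
  haveI : IsMonHom q := hopf_inclusion hle
  haveI : Mono q := mono_of_ker_le (toSub u S₀) (toSub u S₁) q hq backO (Over.OverMorphism.ext hback)
  haveI : Mono q.left := inferInstanceAs (Mono ((Over.forget _).map q))
  haveI : QuasiCompact q.left := by
    haveI : CompactSpace ↥(sp k S₁.alg).left := inferInstanceAs (CompactSpace ↥(Spec (CommRingCat.of S₁.alg)))
    haveI : QuasiSeparatedSpace ↥(sp k S₀.alg).left := inferInstanceAs (QuasiSeparatedSpace ↥(Spec (CommRingCat.of S₀.alg)))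
    exact quasiCompact_of_compactSpace _
  have hci := Groth.Agent.GrpHom.isClosedImmersion_of_mono q
  have hsurj : Function.Surjective (Subalgebra.inclusion hle) := by
    haveI : IsClosedImmersion (Spec.map (CommRingCat.ofHom (Subalgebra.inclusion hle).toRingHom)) := hci
    obtain ⟨-, hs⟩ := IsClosedImmersion.isAffine_surjective_of_isAffine
      (Spec.map (CommRingCat.ofHom (Subalgebra.inclusion hle).toRingHom))
    intro z
    obtain ⟨w, hw⟩ := hs ((Scheme.ΓSpecIso (CommRingCat.of S₁.alg)).inv z)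
    refine ⟨(Scheme.ΓSpecIso (CommRingCat.of S₀.alg)).hom w, ?_⟩
    have e := congr($(Scheme.ΓSpecIso_naturality (CommRingCat.ofHom (Subalgebra.inclusion hle).toRingHom)) w)
    exact e.symm.trans ((congrArg (Scheme.ΓSpecIso (CommRingCat.of S₁.alg)).hom hw).trans
      (Iso.inv_hom_id_apply (Scheme.ΓSpecIso (CommRingCat.of S₁.alg)) z))
  intro x hx
  obtain ⟨⟨y, hy⟩, hy'⟩ := hsurj ⟨x, hx⟩
  exact (show y = x from congrArg Subtype.val hy') ▸ hy

/-- A dominant homomorphism from an algebraic group to an affine group hits a finitely generated Hopf algebra. -/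
theorem finiteType_of_dominant (hu : u.left.ker = ⊥) :
    Flat u.left ∧ Surjective u.left ∧ Algebra.FiniteType k B := by
  haveI : CompactSpace G.left := QuasiCompact.compactSpace_of_compactSpace G.hom
  haveI : IsLocallyNoetherian G.left := LocallyOfFiniteType.isLocallyNoetherian G.hom
  haveI : IsNoetherian G.left := {}
  haveI := Groth.Agent.S4362.result G.left
  have hne : (Set.range (kerId u)).Nonempty := by
    obtain ⟨C, -, hfg, hC⟩ := Groth.Agent.HopfFF.exists_fg_isSubHopf (k := k) (1 : B)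
    exact ⟨_, ⟨C, hfg, hC⟩, rfl⟩
  obtain ⟨_, ⟨S₀, rfl⟩, hmax⟩ := (wellFounded_gt (α := G.left.IdealSheafData)).has_min _ hne
  have htop : ∀ x : B, x ∈ S₀.alg := by
    intro x
    obtain ⟨C, hxC, hfgC, hC⟩ := Groth.Agent.HopfFF.exists_fg_isSubHopf (k := k) x
    obtain ⟨S₁, hS₁⟩ : ∃ S₁ : Sub k B, S₁.alg = S₀.alg ⊔ C :=
      ⟨⟨S₀.alg ⊔ C, S₀.fg.sup hfgC, Groth.Agent.S7962.isSubHopf_sup S₀.hopf hC⟩, rfl⟩
    have hle : S₀.alg ≤ S₁.alg := hS₁ ▸ le_sup_left
    have hge : kerId u S₁ ≤ kerId u S₀ := by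
      by_contra hn
      exact hmax _ ⟨S₁, rfl⟩ (lt_of_le_not_ge (kerId_mono u hle) hn)
    exact le_of_kerId u hu hle hge (hS₁ ▸ le_sup_right (a := S₀.alg) hxC)
  have e : S₀.alg = ⊤ := eq_top_iff.2 fun x _ => htop x
  have hfin : Algebra.FiniteType k B := ⟨e ▸ S₀.fg⟩
  obtain ⟨h1, h2, -⟩ := ff_toSub u hu S₀
  haveI : IsIso (pt S₀.alg.val).left := by
    haveI : IsIso (CommRingCat.ofHom S₀.alg.val.toRingHom) :=
      (ConcreteCategory.isIso_iff_bijective _).2 ⟨Subtype.val_injective, fun x => ⟨⟨x, htop x⟩, rfl⟩⟩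
    rw [pt_left]; infer_instance
  have eu : u.left = (toSub u S₀).left ≫ inv (pt S₀.alg.val).left := by
    rw [IsIso.eq_comp_inv]; rfl
  refine ⟨?_, ?_, hfin⟩ <;> rw [eu] <;> infer_instance

end OrbitLib.ToAffine
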