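import Groth.Agent.OrbitLib.Main
import Groth.Agent.MonoQuotLib.Orbit
import Groth.Agent.FibDimLib.FieldExt
import Groth.Agent.FibDimLib.FibreJumps

/-!
# Dimension of an orbit and of the stabiliser
-/

set_option autoImplicit false
set_option backward.isDefEq.respectTransparency false

universe u

open CategoryTheory CategoryTheory.Limits MonoidalCategory CartesianMonoidalCategory AlgebraicGeometry
open TopologicalSpace Topology
open scoped MonObj

noncomputable section

namespace OrbitLib

variable {k : Type u} [Field k] {G X : Over (Spec (CommRingCat.of k))} [GrpObj G] (a : AlgGrp.Action G X)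
  [LocallyOfFiniteType G.hom] [LocallyOfFiniteType X.hom] (x : 𝟙_ (Over (Spec (CommRingCat.of k))) ⟶ X)

theorem lft_orbitMap : LocallyOfFiniteType (a.orbitMap x).left := by
  haveI : LocallyOfFiniteType ((a.orbitMap x).left ≫ X.hom) := by rw [Over.w]; infer_instance
  exact locallyOfFiniteType_of_comp _ X.hom

/-- All nonempty fibres of the orbit map have the dimension of the stabiliser. -/
theorem dim_fiber (g : G.left) :
    topologicalKrullDim ((a.orbitMap x).left.fiber ((a.orbitMap x).left g)) =
      topologicalKrullDim ↥(Limits.pullback (a.orbitMap x).left x.left) := by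
  haveI := lft_orbitMap a x
  let o := a.orbitMap x
  let H : Over (Spec (CommRingCat.of k)) := Limits.pullback o x
  let i : H ⟶ G := pullback.fst o x
  have hH : IsPullback i (toUnit H) o x := by
    have h := IsPullback.of_hasPullback o x
    rwa [toUnit_unique (pullback.snd o x) (toUnit H)] at h
  haveI : Mono i := Groth.Agent.MonoQuot.mono_of_stabilizer i a x hH
  have hsq := Groth.Agent.MonoQuot.isPullback_cosets i o (Groth.Agent.MonoQuot.orbit_iff i a x hH)
  have sqL : IsPullback (fst G H).left ((G ◁ i) ≫ μ[G]).left o.left o.left := hsq.map (Over.forget _)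
  have e1 := FibDimLib.topologicalKrullDim_fiber_baseChange sqL.flip g
  have hp : IsPullback (snd G H).left (fst G H).left H.hom G.hom := by
    rw [Over.fst_left, Over.snd_left]
    exact (IsPullback.of_hasPullback G.hom H.hom).flip
  haveI : LocallyOfFiniteType i.left :=
    MorphismProperty.of_isPullback (hH.map (Over.forget _)).flip
      (by
        haveI : LocallyOfFiniteType (x.left ≫ X.hom) := by rw [Over.w x]; exact inferInstanceAs (LocallyOfFiniteType (𝟙 (Spec (CommRingCat.of k))))
        exact locallyOfFiniteType_of_comp x.left X.hom)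
  haveI : LocallyOfFiniteType H.hom := by rw [← Over.w i]; infer_instance
  have e2 := FibDimLib.topologicalKrullDim_fiber_baseChange hp g
  let w := (H.hom).fiberι (G.hom g)
  have hw : IsHomeomorph w := by
    haveI : Subsingleton ↥(Spec (CommRingCat.of k)) := inferInstanceAs (Subsingleton (PrimeSpectrum k))
    exact isHomeomorph_iff_isEmbedding_surjective.mpr ⟨w.isEmbedding, Set.range_eq_univ.mp
      ((H.hom.range_fiberι _).trans (Set.eq_univ_of_forall fun z => Subsingleton.elim _ _))⟩
  rw [← e1, e2, IsHomeomorph.topologicalKrullDim_eq _ hw]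
  exact IsHomeomorph.topologicalKrullDim_eq _
    (Scheme.homeoOfIso (hH.map (Over.forget _)).isoPullback).isHomeomorph

theorem dim_eq_add [QuasiCompact G.hom] [QuasiCompact X.hom] :
    topologicalKrullDim G.left =
      topologicalKrullDim ↥(orbit a x) + topologicalKrullDim ↥(Limits.pullback (a.orbitMap x).left x.left) := by
  haveI := lft_orbitMap a x
  haveI : CompactSpace X.left := QuasiCompact.compactSpace_of_compactSpace X.hom
  haveI : CompactSpace G.left := QuasiCompact.compactSpace_of_compactSpace G.hom
  haveI : IsLocallyNoetherian X.left := LocallyOfFiniteType.isLocallyNoetherian X.hom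
  haveI : IsNoetherian X.left := {}
  obtain ⟨O, Z, hO, hZ, hC⟩ := isLocallyClosed_orbit a x
  let W : X.left.Opens := ⟨O, hO⟩
  have hsub : ∀ c ∈ orbit a x, c ∈ O := fun c hc => (hC ▸ hc : c ∈ O ∩ Z).1
  have hle : ∀ c ∈ orbit a x, topologicalKrullDim (closure ({c} : Set X.left)) ≤ topologicalKrullDim ↥(orbit a x) := by
    intro c hc
    rw [← FibDimLib.topologicalKrullDim_closure_open X W ⟨c, hsub c hc⟩]
    have hmem : ∀ w : ↥(closure ({⟨c, hsub c hc⟩} : Set W)), (Subtype.val w).1 ∈ orbit a x := fun w =>
      hC.ge ⟨(Subtype.val w).2, closure_minimal (Set.singleton_subset_iff.mpr (hC ▸ hc : c ∈ O ∩ Z).2) hZ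
        (((specializes_iff_mem_closure.mpr w.2).map continuous_subtype_val).mem_closure)⟩
    exact ((IsEmbedding.subtypeVal.comp IsEmbedding.subtypeVal).codRestrict (orbit a x) hmem).isInducing.topologicalKrullDim_le
  have hfib : ∀ g : G.left, UOpenLib.fibreClosureDim (a.orbitMap x).left g ≤
      topologicalKrullDim ↥(Limits.pullback (a.orbitMap x).left x.left) := fun g =>
    (topologicalKrullDim_subspace_le _ _).trans_eq (dim_fiber a x g)
  apply le_antisymm
  · refine FibDimLib.topologicalKrullDim_le_of_points fun g => ?_
    rw [FibDimLib.topologicalKrullDim_closure_eq_add X.hom (a.orbitMap x).left g]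
    exact add_le_add (hle _ ⟨g, rfl⟩) (hfib g)
  · haveI : Nonempty ↥(orbit a x) := (orbit_nonempty a x).to_subtype
    haveI : QuasiSober ↥(orbit a x) := by
      have h1 : IsClosed (Subtype.val ⁻¹' orbit a x : Set W) := by
        rw [hC, Set.preimage_inter]
        rw [show (Subtype.val ⁻¹' O : Set W) = Set.univ from Set.eq_univ_of_forall fun w => w.2]
        exact isClosed_univ.inter (hZ.preimage continuous_subtype_val)
      haveI : QuasiSober ↥W := inferInstanceAs (QuasiSober (W : Scheme.{u}))
      haveI := h1.isClosedEmbedding_subtypeVal.quasiSober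
      let H : ↥(orbit a x) ≃ₜ ↥(Subtype.val ⁻¹' orbit a x : Set W) :=
        { toFun := fun c => ⟨⟨c.1, hsub c.1 c.2⟩, c.2⟩
          invFun := fun c => ⟨c.1.1, c.2⟩
          left_inv := fun _ => rfl
          right_inv := fun _ => rfl
          continuous_toFun := (continuous_subtype_val.subtype_mk _).subtype_mk _
          continuous_invFun := (continuous_subtype_val.comp continuous_subtype_val).subtype_mk _ }
      exact H.isClosedEmbedding.quasiSober
    obtain ⟨z, -, hz⟩ := FibDimLib.exists_generic_closure_dim (A := ↥(orbit a x))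
    obtain ⟨g₀, hg₀⟩ := z.2
    have hle' : topologicalKrullDim ↥(orbit a x) ≤ topologicalKrullDim (closure ({(z : X.left)} : Set X.left)) := by
      rw [hz]
      have hm : ∀ w : ↥(closure ({z} : Set ↥(orbit a x))), (Subtype.val w).1 ∈ closure ({(z : X.left)} : Set X.left) :=
        fun w => ((specializes_iff_mem_closure.mpr w.2).map continuous_subtype_val).mem_closure
      exact ((IsEmbedding.subtypeVal.comp IsEmbedding.subtypeVal).codRestrict _ hm).isInducing.topologicalKrullDim_le
    have hfd := dim_fiber a x g₀
    haveI : Nonempty ↥((a.orbitMap x).left.fiber ((a.orbitMap x).left g₀)) := ⟨(a.orbitMap x).left.asFiber g₀⟩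
    haveI : CompactSpace ↥((a.orbitMap x).left.fiber ((a.orbitMap x).left g₀)) := by
      haveI : QuasiCompact (a.orbitMap x).left := quasiCompact_of_compactSpace _
      infer_instance
    haveI : LocallyOfFiniteType (Over.mk ((a.orbitMap x).left.fiberToSpecResidueField ((a.orbitMap x).left g₀))).hom :=
      UOpenLib.lft_fiberToSpec _ _
    haveI : CompactSpace ↥(Over.mk ((a.orbitMap x).left.fiberToSpecResidueField ((a.orbitMap x).left g₀))).left :=
      ‹CompactSpace ↥((a.orbitMap x).left.fiber ((a.orbitMap x).left g₀))›
    haveI : Nonempty ↥(Over.mk ((a.orbitMap x).left.fiberToSpecResidueField ((a.orbitMap x).left g₀))).left :=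
      ‹Nonempty ↥((a.orbitMap x).left.fiber ((a.orbitMap x).left g₀))›
    obtain ⟨r, hr⟩ := exists_dim_eq_nat
      (Over.mk ((a.orbitMap x).left.fiberToSpecResidueField ((a.orbitMap x).left g₀)))
    obtain ⟨g, hg, hgd⟩ := FibDimLib.exists_fibreDimAt_ge (a.orbitMap x).left ((a.orbitMap x).left g₀) hr.ge
    rw [← hfd, show topologicalKrullDim ↥((a.orbitMap x).left.fiber ((a.orbitMap x).left g₀)) = r from hr]
    refine le_trans ?_ (topologicalKrullDim_subspace_le G.left (closure ({g} : Set G.left)))
    rw [FibDimLib.topologicalKrullDim_closure_eq_add X.hom (a.orbitMap x).left g, hg, hg₀]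
    exact add_le_add hle' hgd

end OrbitLib
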