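import Groth.Agent.OrbitLib.Basic
import Groth.Agent.OrbitLib.Smooth
import Groth.Agent.AlgSpLib.FpqcMore
import Groth.Agent.FlatLib.FlatLocusScheme
import Mathlib.AlgebraicGeometry.Morphisms.FlatDescent

/-!
# Equivariant monomorphisms with reduced homogeneous source
-/

set_option autoImplicit false
set_option linter.style.haveILetI false
set_option backward.isDefEq.respectTransparency false

universe u

open CategoryTheory CategoryTheory.Limits MonoidalCategory CartesianMonoidalCategory AlgebraicGeometry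
open TopologicalSpace Topology
open scoped MonObj

noncomputable section

namespace OrbitLib

/-- A monomorphism of finite presentation onto a reduced scheme is an isomorphism over some nonempty open. -/
theorem exists_open_isClosedImmersion {Y X Z : Scheme.{u}} (m : Y ⟶ X) [Mono m] [IsReduced Y] (i : Z ⟶ X)
    [IsImmersion i] [IsReduced Z] [IsLocallyNoetherian Z] [LocallyOfFiniteType m]
    (h : Set.range m = Set.range i) [hY : Nonempty Y] :
    ∃ V : X.Opens, (∃ y, m y ∈ V) ∧ IsClosedImmersion (m ∣_ V) := by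
  obtain ⟨l, hl⟩ := Groth.Agent.EtShLib.exists_lift_immersion i m h.le
  haveI : Mono (l ≫ i) := hl.symm ▸ ‹Mono m›
  haveI : Mono l := mono_of_mono l i
  haveI : LocallyOfFiniteType (l ≫ i) := hl.symm ▸ ‹LocallyOfFiniteType m›
  haveI : LocallyOfFiniteType l := locallyOfFiniteType_of_comp l i
  haveI : LocallyOfFinitePresentation l := UOpenLib.locallyOfFinitePresentation_of_isLocallyNoetherian l
  have hsurj : Function.Surjective l := fun z => by
    obtain ⟨y, hy⟩ := h.ge (⟨z, rfl⟩ : i z ∈ Set.range i)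
    exact ⟨y, i.isEmbedding.injective (by rw [← hy, ← hl]; rfl)⟩
  obtain ⟨z₀⟩ : Nonempty Z := hY.map l
  have hgen := (isIrreducible_irreducibleComponent (x := z₀)).isGenericPoint_genericPoint_closure
  rw [closure_eq_iff_isClosed.mpr isClosed_irreducibleComponent] at hgen
  set e := (isIrreducible_irreducibleComponent (x := z₀)).genericPoint
  have hmax : ∀ z, z ⤳ e → z = e := fun z hz => by
    have h1 : irreducibleComponent z₀ ⊆ closure {z} := by
      rw [← hgen.def]
      exact closure_minimal (Set.singleton_subset_iff.mpr hz.mem_closure) isClosed_closure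
    have h2 : closure {z} ⊆ irreducibleComponent z₀ :=
      ((irreducibleComponent_mem_irreducibleComponents z₀).2 isIrreducible_singleton.closure h1)
    exact ((hgen.specializes (h2 (subset_closure rfl))).antisymm hz).eq.symm
  obtain ⟨y, hy⟩ := hsurj e
  have hflat : FlatLib.FlatAt l y := by
    letI := (l.stalkMap y).hom.toAlgebra
    letI := (show IsField (Z.presheaf.stalk (l y)) from hy ▸ isField_stalk_of_max e hmax).toField
    show Module.Flat (Z.presheaf.stalk (l y)) (Y.presheaf.stalk y)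
    infer_instance
  obtain ⟨O, hyO, hO⟩ := FlatLib.exists_open_flat l hflat
  haveI := hO
  haveI : IsOpenImmersion (O.ι ≫ l) := IsOpenImmersion.of_flat_of_mono _
  let Z₁ := (O.ι ≫ l).opensRange
  obtain ⟨V', hV', hVZ⟩ := i.isEmbedding.isInducing.isOpen_iff.mp Z₁.isOpen
  obtain ⟨W, F, hW, hF, hWF⟩ := i.isEmbedding.isInducing |> fun _ => (i.isLocallyClosed_range)
  let V : X.Opens := ⟨V' ∩ W, hV'.inter hW⟩
  have hpre : i ⁻¹ᵁ V = Z₁ := TopologicalSpace.Opens.ext (by
    show i ⁻¹' (V' ∩ W) = Z₁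
    rw [Set.preimage_inter, hVZ, Set.inter_eq_left]
    exact fun z _ => (hWF ▸ ⟨z, rfl⟩ : i z ∈ W ∩ F).1)
  refine ⟨V, ⟨y, ?_⟩, ?_⟩
  · show y ∈ m ⁻¹ᵁ V
    rw [← hl, Scheme.Hom.comp_preimage, hpre]
    exact ⟨⟨y, hyO⟩, rfl⟩
  · subst hl
    rw [morphismRestrict_comp]
    haveI : IsImmersion (i ∣_ V) := IsZariskiLocalAtTarget.restrict ‹_› V
    haveI : IsClosedImmersion (i ∣_ V) := by
      refine IsClosedImmersion.of_isPreimmersion _ ?_
      rw [show Set.range (i ∣_ V) = Subtype.val ⁻¹' F from ?_]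
      · exact hF.preimage continuous_subtype_val
      ext v
      refine ⟨?_, fun hv => ?_⟩
      · rintro ⟨z, rfl⟩
        have : i (Subtype.val z) ∈ W ∩ F := hWF ▸ ⟨_, rfl⟩
        rw [Set.mem_preimage]
        convert this.2 using 1
        exact congr($(morphismRestrict_ι i V) z)
      · obtain ⟨z, hz⟩ := (hWF ▸ ⟨v.2.2, hv⟩ : Subtype.val v ∈ Set.range i)
        exact ⟨⟨z, show i z ∈ V from hz ▸ v.2⟩, Subtype.ext (congr($(morphismRestrict_ι i V) ⟨z, _⟩).trans hz)⟩
    haveI : IsIso (l ∣_ (i ⁻¹ᵁ V)) := by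
      rw [hpre]
      have hOeq : l ⁻¹ᵁ Z₁ = O := TopologicalSpace.Opens.ext (Set.ext fun w => by
        refine ⟨fun hw => ?_, fun hw => ⟨⟨w, hw⟩, rfl⟩⟩
        obtain ⟨o, ho⟩ := hw
        haveI : UniversallyInjective l := inferInstance
        exact l.injective ho ▸ o.2)
      haveI : IsOpenImmersion (l ∣_ Z₁) := by
        haveI : IsOpenImmersion ((l ⁻¹ᵁ Z₁).ι ≫ l) := by rw [hOeq]; infer_instance
        haveI : IsOpenImmersion ((l ∣_ Z₁) ≫ Z₁.ι) := by rw [morphismRestrict_ι]; infer_instance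
        exact IsOpenImmersion.of_comp (l ∣_ Z₁) Z₁.ι
      haveI : Surjective (l ∣_ Z₁) := IsZariskiLocalAtTarget.restrict ⟨hsurj⟩ Z₁
      exact isIso_of_isOpenImmersion_of_opensRange_eq_top _ (TopologicalSpace.Opens.ext (l ∣_ Z₁).surjective.range_eq)
    infer_instance

variable {k : Type u} [Field k] {G X Y : Over (Spec (CommRingCat.of k))} [GrpObj G] (a : AlgGrp.Action G X)
  (b : AlgGrp.Action G Y) (m : Y ⟶ X)

theorem isPullback_act (hm : b.act ≫ m = (G ◁ m) ≫ a.act) :
    IsPullback (G ◁ m).left b.act.left a.act.left m.left := by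
  have e : (shearX b).hom ≫ (G ◁ m) = (G ◁ m) ≫ (shearX a).hom := by
    refine CartesianMonoidalCategory.hom_ext _ _ ?_ ?_
    · simp only [shearX, GrpShear.shear, Category.assoc, lift_fst, whiskerLeft_fst]
    · rw [Category.assoc, Category.assoc, whiskerLeft_snd, reassoc_of% (shearX_snd b), shearX_snd, hm]
  have h1 : IsPullback (G ◁ m).left (shearX b).hom.left (shearX a).hom.left (G ◁ m).left := by
    haveI : IsIso (shearX a).hom.left := inferInstanceAs (IsIso ((Over.forget _).map (shearX a).hom))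
    haveI : IsIso (shearX b).hom.left := inferInstanceAs (IsIso ((Over.forget _).map (shearX b).hom))
    exact IsPullback.of_vert_isIso ⟨by rw [← Over.comp_left, ← Over.comp_left, e]⟩
  have h2 := h1.paste_vert (Groth.Agent.FinHom.isPullback_whiskerLeft G m)
  rw [← Over.snd_left, ← Over.snd_left, ← Over.comp_left, ← Over.comp_left, shearX_snd, shearX_snd] at h2
  exact h2

/-- A property of an equivariant morphism spreads from an open meeting an orbit to all translates of it. -/
theorem exists_open_of_equivariant [LocallyOfFiniteType G.hom] [LocallyOfFiniteType X.hom]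
    (P : MorphismProperty Scheme.{u}) [P.IsStableUnderBaseChange] [P.RespectsIso]
    [P.DescendsAlong (@Surjective ⊓ @Flat ⊓ @LocallyOfFinitePresentation)] (hm : b.act ≫ m = (G ◁ m) ≫ a.act)
    (x : 𝟙_ (Over (Spec (CommRingCat.of k))) ⟶ X) (V : X.left.Opens) (hne : ∃ c ∈ orbit a x, c ∈ V)
    (hV : P (m.left ∣_ V)) : ∃ O : X.left.Opens, orbit a x ⊆ O ∧ P (m.left ∣_ O) := by
  haveI : IsLocallyNoetherian X.left := LocallyOfFiniteType.isLocallyNoetherian X.hom
  let A : (G ⊗ X).left.Opens := a.act.left ⁻¹ᵁ V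
  haveI : UniversallyOpen (snd G X).left := universallyOpen_snd
  let O : X.left.Opens := ⟨(snd G X).left '' A, (snd G X).left.isOpenMap _ A.isOpen⟩
  have hA : A ≤ (snd G X).left ⁻¹ᵁ O := fun w hw => ⟨w, hw, rfl⟩
  let l := (snd G X).left.resLE O A hA
  have hl : l ≫ O.ι = A.ι ≫ (snd G X).left := Scheme.Hom.resLE_comp_ι _ _
  have hp : P (pullback.snd m.left (l ≫ O.ι)) := by
    rw [hl]
    have h1 : IsPullback (pullback.fst (G ◁ m).left A.ι ≫ (snd G Y).left) (pullback.snd (G ◁ m).left A.ι) m.left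
        (A.ι ≫ (snd G X).left) := by
      rw [Over.snd_left, Over.snd_left]
      exact (IsPullback.of_hasPullback (G ◁ m).left A.ι).paste_horiz (Groth.Agent.FinHom.isPullback_whiskerLeft G m).flip
    have h2 : IsPullback (pullback.fst (G ◁ m).left A.ι ≫ b.act.left) (pullback.snd (G ◁ m).left A.ι) m.left
        (A.ι ≫ a.act.left) :=
      (IsPullback.of_hasPullback (G ◁ m).left A.ι).paste_horiz (isPullback_act a b m hm).flip
    have h3 : P (pullback.snd m.left (A.ι ≫ a.act.left)) := by
      have e : A.ι ≫ a.act.left = (a.act.left ∣_ V) ≫ V.ι := (morphismRestrict_ι _ _).symm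
      rw [e]
      have h4 : IsPullback (pullback.fst (m.left ∣_ V) (a.act.left ∣_ V) ≫ (m.left ⁻¹ᵁ V).ι)
          (pullback.snd (m.left ∣_ V) (a.act.left ∣_ V)) m.left ((a.act.left ∣_ V) ≫ V.ι) :=
        (IsPullback.of_hasPullback _ _).paste_horiz (isPullback_morphismRestrict m.left V).flip
      rw [← h4.isoPullback_inv_snd]
      exact (P.cancel_left_of_respectsIso _ _).mpr (MorphismProperty.pullback_snd _ _ hV)
    have h3' : P (pullback.snd (G ◁ m).left A.ι) := by
      rw [← h2.isoPullback_hom_snd]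
      exact (P.cancel_left_of_respectsIso _ _).mpr h3
    rw [← h1.isoPullback_inv_snd]
    exact (P.cancel_left_of_respectsIso _ _).mpr h3'
  haveI : Flat l := by
    haveI : Flat (snd G X).left := by rw [Over.snd_left]; infer_instance
    exact inferInstanceAs (Flat ((snd G X).left.resLE O A hA))
  haveI : LocallyOfFinitePresentation l := by
    haveI : LocallyOfFinitePresentation G.hom := UOpenLib.locallyOfFinitePresentation_of_isLocallyNoetherian G.hom
    haveI : LocallyOfFinitePresentation (snd G X).left := by rw [Over.snd_left]; infer_instance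
    haveI : LocallyOfFinitePresentation (l ≫ O.ι) := by rw [hl]; infer_instance
    haveI : LocallyOfFiniteType l := locallyOfFiniteType_of_comp l O.ι
    exact UOpenLib.locallyOfFinitePresentation_of_isLocallyNoetherian l
  haveI : Surjective l := ⟨fun o => by
    obtain ⟨w, hw, e⟩ := o.2
    refine ⟨(⟨w, hw⟩ : A), O.ι.isEmbedding.injective ?_⟩
    exact (congr($hl (⟨w, hw⟩ : A))).trans e⟩
  have h5 : IsPullback (pullback.fst (m.left ∣_ O) l ≫ (m.left ⁻¹ᵁ O).ι) (pullback.snd (m.left ∣_ O) l) m.left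
      (l ≫ O.ι) :=
    (IsPullback.of_hasPullback _ _).paste_horiz (isPullback_morphismRestrict m.left O).flip
  obtain ⟨c, hc, hcV⟩ := hne
  refine ⟨O, fun d hd => ?_, MorphismProperty.of_pullback_snd_of_descendsAlong
      (Q := @Surjective ⊓ @Flat ⊓ @LocallyOfFinitePresentation) (f := m.left ∣_ O) (g := l)
      ⟨⟨inferInstance, inferInstance⟩, inferInstance⟩ ?_⟩
  · obtain ⟨w, hw1, hw2⟩ := exists_transport a x hc hd
    exact ⟨w, show a.act.left w ∈ V from hw1 ▸ hcV, hw2⟩
  · rw [← h5.isoPullback_hom_snd]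
    exact (P.cancel_left_of_respectsIso _ _).mpr hp

theorem isImmersion_of_equivariant [LocallyOfFiniteType G.hom] [LocallyOfFiniteType X.hom] [Mono m.left]
    [LocallyOfFiniteType Y.hom] [IsReduced Y.left] (hm : b.act ≫ m = (G ◁ m) ≫ a.act)
    (x : 𝟙_ (Over (Spec (CommRingCat.of k))) ⟶ X) (Z : Scheme.{u}) (i : Z ⟶ X.left) [IsImmersion i]
    [IsReduced Z] (hi : Set.range i = orbit a x) (hr : Set.range m.left = orbit a x) :
    IsImmersion m.left := by
  haveI : IsLocallyNoetherian X.left := LocallyOfFiniteType.isLocallyNoetherian X.hom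
  haveI : IsLocallyNoetherian Z := LocallyOfFiniteType.isLocallyNoetherian i
  haveI : LocallyOfFiniteType (m.left ≫ X.hom) := by rw [Over.w]; infer_instance
  haveI : LocallyOfFiniteType m.left := locallyOfFiniteType_of_comp _ X.hom
  obtain ⟨c₀, hc₀⟩ := orbit_nonempty a x
  obtain ⟨y₀, hy₀⟩ := hr.ge hc₀
  haveI : Nonempty Y.left := ⟨y₀⟩
  obtain ⟨V, ⟨y, hy⟩, hV⟩ := exists_open_isClosedImmersion m.left i (hr.trans hi.symm)
  obtain ⟨O, hsub, hO'⟩ := exists_open_of_equivariant a b m @IsClosedImmersion hm x V ⟨_, hr.le ⟨y, rfl⟩, hy⟩ hV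
  haveI := hO'
  have hO : ∀ z, m.left z ∈ O := fun z => hsub (hr.le ⟨z, rfl⟩)
  have htop : m.left ⁻¹ᵁ O = ⊤ := top_le_iff.mp fun z _ => hO z
  haveI : IsIso (m.left ⁻¹ᵁ O).ι := isIso_of_isOpenImmersion_of_opensRange_eq_top _ (by rw [Scheme.Opens.opensRange_ι, htop])
  rw [← IsIso.inv_hom_id_assoc (m.left ⁻¹ᵁ O).ι m.left, ← morphismRestrict_ι]
  infer_instance

end OrbitLib
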