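import Groth.Agent.OrbitLib.Immersion
import Groth.Agent.OrbitLib.Quot
import Groth.Agent.GrpFieldLib.Comps
import Groth.Agent.DevissLib.ClosedImm
import Groth.Prelude

/-!
# Properness of orbit maps
-/

set_option autoImplicit false
set_option linter.style.haveILetI false
set_option backward.isDefEq.respectTransparency false

universe u

open CategoryTheory CategoryTheory.Limits MonoidalCategory CartesianMonoidalCategory AlgebraicGeometry
open scoped MonObj

noncomputable section

namespace OrbitLib

variable {k : Type u} [Field k] {G X : Over (Spec (CommRingCat.of k))} [GrpObj G] (a : AlgGrp.Action G X)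
  (x : 𝟙_ (Over (Spec (CommRingCat.of k))) ⟶ X)

theorem isProper_orbitMap [LocallyOfFiniteType G.hom] [QuasiCompact G.hom] [LocallyOfFiniteType X.hom]
    (hclosed : IsClosed (orbit a x))
    (hst : IsProper (pullback (a.orbitMap x) x).hom) : IsProper (a.orbitMap x).left := by
  haveI : IsSeparated G.hom := Groth.Agent.GrpField.isSeparated_grp (G := G)
  haveI : IsSeparated ((a.orbitMap x).left ≫ X.hom) := by rw [Over.w]; infer_instance
  haveI : IsSeparated (a.orbitMap x).left := IsSeparated.of_comp _ X.hom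
  haveI : LocallyOfFiniteType ((a.orbitMap x).left ≫ X.hom) := by rw [Over.w]; infer_instance
  haveI : LocallyOfFiniteType (a.orbitMap x).left := locallyOfFiniteType_of_comp _ X.hom
  haveI : CompactSpace G.left := QuasiCompact.compactSpace_of_compactSpace G.hom
  haveI : IsLocallyNoetherian X.left := LocallyOfFiniteType.isLocallyNoetherian X.hom
  haveI : IsLocallyNoetherian G.left := LocallyOfFiniteType.isLocallyNoetherian G.hom
  let o := (a.orbitMap x).left
  let H := pullback (a.orbitMap x) x
  let i : H ⟶ G := pullback.fst _ _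
  have hH : IsPullback i (toUnit H) (a.orbitMap x) x := by
    have h := IsPullback.of_hasPullback (a.orbitMap x) x
    rwa [toUnit_unique (pullback.snd (a.orbitMap x) x) (toUnit H)] at h
  haveI : Mono i := Groth.Agent.MonoQuot.mono_of_stabilizer i a x hH
  have sqL : IsPullback (fst G H).left ((G ◁ i) ≫ μ[G]).left o o :=
    (Groth.Agent.MonoQuot.isPullback_cosets i _ (Groth.Agent.MonoQuot.orbit_iff i a x hH)).map (Over.forget _)
  haveI : UniversallyClosed (pullback.fst o o) := by
    haveI : UniversallyClosed (fst G H).left := by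
      haveI := hst
      rw [Over.fst_left]
      infer_instance
    rw [← sqL.isoPullback_inv_fst]
    infer_instance
  -- the reduced structures
  let JZ := Scheme.IdealSheafData.vanishingIdeal ⟨orbit a x, hclosed⟩
  let JG := Scheme.IdealSheafData.vanishingIdeal (⊤ : TopologicalSpace.Closeds G.left)
  haveI : IsReduced JZ.subscheme := DevissLib.isReduced_vanishingIdeal' _
  haveI : IsReduced JG.subscheme := DevissLib.isReduced_vanishingIdeal' _
  have hz : Set.range JZ.subschemeι = orbit a x :=
    (Scheme.IdealSheafData.range_subschemeι _).trans (Scheme.IdealSheafData.coe_support_vanishingIdeal _)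
  have hj : Set.range JG.subschemeι = Set.univ :=
    (Scheme.IdealSheafData.range_subschemeι _).trans (Scheme.IdealSheafData.coe_support_vanishingIdeal _)
  obtain ⟨r, hr⟩ := Groth.Agent.EtShLib.exists_lift_immersion JZ.subschemeι (JG.subschemeι ≫ o) (by
    rw [hz]
    rintro _ ⟨g, rfl⟩
    exact ⟨JG.subschemeι g, rfl⟩)
  haveI : IsLocallyNoetherian JZ.subscheme := LocallyOfFiniteType.isLocallyNoetherian JZ.subschemeι
  haveI : LocallyOfFiniteType (r ≫ JZ.subschemeι) := by rw [hr]; infer_instance
  haveI : LocallyOfFiniteType r := locallyOfFiniteType_of_comp r JZ.subschemeι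
  haveI : LocallyOfFinitePresentation r := UOpenLib.locallyOfFinitePresentation_of_isLocallyNoetherian r
  have hrsurj : Function.Surjective r := fun z => by
    obtain ⟨g, hg⟩ := hz.le ⟨z, rfl⟩
    obtain ⟨g', rfl⟩ := hj.ge (Set.mem_univ g)
    exact ⟨g', JZ.subschemeι.isEmbedding.injective ((congr($hr g')).trans hg)⟩
  obtain ⟨z₀⟩ : Nonempty JZ.subscheme := by
    obtain ⟨c, hc⟩ := orbit_nonempty a x
    obtain ⟨z, -⟩ := hz.ge hc
    exact ⟨z⟩
  have hgen := (isIrreducible_irreducibleComponent (x := z₀)).isGenericPoint_genericPoint_closure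
  rw [closure_eq_iff_isClosed.mpr isClosed_irreducibleComponent] at hgen
  set e := (isIrreducible_irreducibleComponent (x := z₀)).genericPoint
  have hmax : ∀ z, z ⤳ e → z = e := fun z hz => by
    have h1 : irreducibleComponent z₀ ⊆ closure {z} := by
      rw [← hgen.def]
      exact closure_minimal (Set.singleton_subset_iff.mpr hz.mem_closure) isClosed_closure
    have h2 : closure {z} ⊆ irreducibleComponent z₀ :=
      ((irreducibleComponent_mem_irreducibleComponents z₀).2 isIrreducible_singleton.closure h1)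
    exact ((hgen.specializes (h2 (subset_closure rfl))).antisymm hz).eq.symm
  obtain ⟨g₁, hg₁⟩ := hrsurj e
  have hflat : FlatLib.FlatAt r g₁ := by
    letI := (r.stalkMap g₁).hom.toAlgebra
    letI := (show IsField (JZ.subscheme.presheaf.stalk (r g₁)) from hg₁ ▸ isField_stalk_of_max e hmax).toField
    show Module.Flat (JZ.subscheme.presheaf.stalk (r g₁)) (JG.subscheme.presheaf.stalk g₁)
    infer_instance
  obtain ⟨O, hgO, hOflat⟩ := FlatLib.exists_open_flat r hflat
  haveI := hOflat
  let W : JZ.subscheme.Opens := ⟨Set.range (O.ι ≫ r), (O.ι ≫ r).isOpenMap.isOpen_range⟩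
  -- properness over `W`
  obtain ⟨t, ht⟩ : ∃ t : (O : Scheme.{u}) ⟶ W, t ≫ W.ι = O.ι ≫ r :=
    ⟨IsOpenImmersion.lift W.ι (O.ι ≫ r) (by rw [Scheme.Opens.range_ι]; rfl), IsOpenImmersion.lift_fac _ _ _⟩
  haveI : LocallyOfFinitePresentation (t ≫ W.ι) := by rw [ht]; infer_instance
  haveI : LocallyOfFinitePresentation t := by
    haveI : LocallyOfFiniteType t := locallyOfFiniteType_of_comp t W.ι
    exact UOpenLib.locallyOfFinitePresentation_of_isLocallyNoetherian t
  haveI : Flat t := by
    rw [Flat.iff_flat_stalkMap]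
    intro w
    have h : FlatLib.FlatAt (t ≫ W.ι) w := (FlatLib.flatAt_congr ht w).mpr (FlatLib.flatAt_of_flat _ w)
    exact FlatLib.flatAt_cancel_etale h
  haveI : Surjective t := ⟨fun w => by
    obtain ⟨u, hu⟩ := w.2
    exact ⟨u, W.ι.isEmbedding.injective ((congr($ht u)).trans hu)⟩⟩
  let v : (W : Scheme.{u}) ⟶ X.left := W.ι ≫ JZ.subschemeι
  have hfac : t ≫ v = (O.ι ≫ JG.subschemeι) ≫ o := by
    simp only [v]
    rw [reassoc_of% ht, hr, Category.assoc]
  haveI : UniversallyClosed (pullback.snd o v) := by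
    refine MorphismProperty.of_pullback_snd_of_descendsAlong
      (P := @UniversallyClosed) (Q := @Surjective ⊓ @Flat ⊓ @LocallyOfFinitePresentation)
      (f := pullback.snd o v) (g := t) ⟨⟨inferInstance, inferInstance⟩, inferInstance⟩ ?_
    have h1 : IsPullback (pullback.fst (pullback.snd o v) t ≫ pullback.fst o v) (pullback.snd (pullback.snd o v) t) o
        (t ≫ v) :=
      (IsPullback.of_hasPullback _ t).paste_horiz (IsPullback.of_hasPullback o v)
    rw [← h1.isoPullback_hom_snd]
    have h2 : UniversallyClosed (pullback.snd o (t ≫ v)) := by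
      rw [hfac]
      have h3 : IsPullback (pullback.fst (pullback.snd o o) (O.ι ≫ JG.subschemeι) ≫ pullback.fst o o)
          (pullback.snd (pullback.snd o o) (O.ι ≫ JG.subschemeι)) o ((O.ι ≫ JG.subschemeι) ≫ o) :=
        (IsPullback.of_hasPullback _ _).paste_horiz (IsPullback.of_hasPullback o o)
      haveI : UniversallyClosed (pullback.snd o o) := by
        rw [← pullbackSymmetry_hom_comp_fst]; infer_instance
      rw [← h3.isoPullback_inv_snd]
      infer_instance
    infer_instance
  obtain ⟨V', hV', hVW⟩ := JZ.subschemeι.isEmbedding.isInducing.isOpen_iff.mp W.isOpen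
  let V : X.left.Opens := ⟨V', hV'⟩
  haveI : UniversallyClosed (o ∣_ V) := by
    -- the part over the reduced orbit is surjective
    let p : pullback o v ⟶ (o ⁻¹ᵁ V : G.left.Opens) := IsOpenImmersion.lift (o ⁻¹ᵁ V).ι (pullback.fst o v) (by
      rw [Scheme.Opens.range_ι]
      rintro _ ⟨q, rfl⟩
      show o (pullback.fst o v q) ∈ V'
      rw [show o (pullback.fst o v q) = v (pullback.snd o v q) from congr($(pullback.condition (f := o) (g := v)) q)]
      exact hVW.ge (pullback.snd o v q).2)
    have hp : p ≫ (o ⁻¹ᵁ V).ι = pullback.fst o v := IsOpenImmersion.lift_fac _ _ _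
    haveI : Surjective p := ⟨fun g => by
      have hg : o g.1 ∈ orbit a x := ⟨g.1, rfl⟩
      obtain ⟨z, hz'⟩ := hz.ge hg
      have hzW : z ∈ (W : Set _) := hVW.le (show JZ.subschemeι z ∈ V' from hz' ▸ g.2)
      obtain ⟨q, hq, -⟩ := Scheme.Pullback.exists_preimage_pullback (f := o) (g := v) g.1 ⟨z, hzW⟩ hz'.symm
      exact ⟨q, (o ⁻¹ᵁ V).ι.isEmbedding.injective ((congr($hp q)).trans hq)⟩⟩
    let v' : (W : Scheme.{u}) ⟶ V := IsOpenImmersion.lift V.ι v (by
      rw [Scheme.Opens.range_ι]
      rintro _ ⟨w, rfl⟩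
      exact hVW.ge w.2)
    haveI : UniversallyClosed v' := by
      haveI : IsImmersion (v' ≫ V.ι) := by rw [IsOpenImmersion.lift_fac]; infer_instance
      haveI : IsImmersion v' := IsImmersion.of_comp v' V.ι
      haveI : IsClosedImmersion v' := IsClosedImmersion.of_isPreimmersion v' (by
        rw [show Set.range v' = Subtype.val ⁻¹' orbit a x from ?_]
        · exact hclosed.preimage continuous_subtype_val
        ext c
        refine ⟨?_, fun hc => ?_⟩
        · rintro ⟨w, rfl⟩
          show V.ι (v' w) ∈ orbit a x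
          rw [show V.ι (v' w) = v w from congr($(IsOpenImmersion.lift_fac V.ι v _) w)]
          exact hz.le ⟨W.ι w, rfl⟩
        · obtain ⟨z, hz'⟩ := hz.ge (hc : c.1 ∈ orbit a x)
          have hzW : z ∈ (W : Set _) := hVW.le (show JZ.subschemeι z ∈ V' from hz' ▸ c.2)
          exact ⟨⟨z, hzW⟩, V.ι.isEmbedding.injective ((congr($(IsOpenImmersion.lift_fac V.ι v _) _)).trans hz')⟩)
      infer_instance
    haveI : UniversallyClosed (p ≫ (o ∣_ V)) := by
      rw [show p ≫ (o ∣_ V) = pullback.snd o v ≫ v' from by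
        rw [← cancel_mono V.ι, Category.assoc, Category.assoc, morphismRestrict_ι, reassoc_of% hp,
          IsOpenImmersion.lift_fac, pullback.condition]]
      infer_instance
    exact UniversallyClosed.of_comp_surjective p _
  have hne : ∃ c ∈ orbit a x, c ∈ V :=
    ⟨JZ.subschemeι (r g₁), hz.le ⟨_, rfl⟩, hVW.ge (⟨⟨g₁, hgO⟩, rfl⟩ : r g₁ ∈ (W : Set _))⟩
  obtain ⟨U, hU, hUp⟩ := exists_open_of_equivariant a (GrpShear.mulAction G) (a.orbitMap x) @UniversallyClosed
    (by
      show μ[G] ≫ _ = _
      rw [comp_orbitMap, AlgGrp.Action.orbitMap, whiskerLeft_comp_assoc]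
      have e1 : (G ◁ lift (𝟙 G) (toUnit G ≫ x)) ≫ (G ◁ a.act) ≫ a.act =
          lift (fst G G) (lift (snd G G) (toUnit (G ⊗ G) ≫ x) ≫ a.act) ≫ a.act := by
        rw [← whiskerLeft_comp_assoc]
        congr 1
        refine CartesianMonoidalCategory.hom_ext _ _ (by simp) ?_
        rw [whiskerLeft_snd, lift_snd, ← Category.assoc, comp_lift, Category.comp_id, ← Category.assoc,
          toUnit_unique (snd G G ≫ toUnit G) (toUnit _)]
      rw [e1, ← GrpShear.lift_mul_act, Hom.mul_def, lift_fst_snd, Category.id_comp])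
    x V hne inferInstance
  haveI : UniversallyClosed o := by
    haveI := hUp
    haveI : IsIso (o ⁻¹ᵁ U).ι := isIso_of_isOpenImmersion_of_opensRange_eq_top _
      (by rw [Scheme.Opens.opensRange_ι]; exact top_le_iff.mp fun g _ => hU ⟨g, rfl⟩)
    -- cover the target by `U` and the complement of the orbit
    refine (IsZariskiLocalAtTarget.iff_of_iSup_eq_top (P := @UniversallyClosed)
      (fun b : Bool => cond b U ⟨(orbit a x)ᶜ, hclosed.isOpen_compl⟩) ?_).mpr ?_
    · refine top_le_iff.mp fun c _ => TopologicalSpace.Opens.mem_iSup.mpr ?_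
      by_cases hc : c ∈ orbit a x
      · exact ⟨true, hU hc⟩
      · exact ⟨false, hc⟩
    · rintro ⟨⟩
      · haveI : IsEmpty ↥((o ⁻¹ᵁ ⟨(orbit a x)ᶜ, hclosed.isOpen_compl⟩ : G.left.Opens) : Scheme.{u}) :=
          ⟨fun g => g.2 ⟨g.1, rfl⟩⟩
        exact inferInstanceAs (UniversallyClosed (o ∣_ ⟨(orbit a x)ᶜ, hclosed.isOpen_compl⟩))
      · exact hUp
  haveI : QuasiCompact o := quasiCompact_of_compactSpace o
  exact {}

end OrbitLib
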