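import Groth.Agent.OrbitLib.ToAffine
import Groth.Prelude

/-!
# Dominant homomorphisms to pro-algebraic groups
-/

set_option autoImplicit false
set_option linter.style.haveILetI false
set_option backward.isDefEq.respectTransparency false

universe u v w

open CategoryTheory CategoryTheory.Limits MonoidalCategory CartesianMonoidalCategory AlgebraicGeometry
open scoped MonObj

noncomputable section

namespace OrbitLib.ToLimit

variable {k : Type u} [Field k] {G : Over (Spec (CommRingCat.of k))} [GrpObj G]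
  [LocallyOfFiniteType G.hom] [QuasiCompact G.hom]

/-- The ideal of the kernel of a homomorphism. -/
abbrev kerI {H : Over (Spec (CommRingCat.of k))} [GrpObj H] (f : G ⟶ H) : G.left.IdealSheafData :=
  (pullback.fst f (η[H] : 𝟙_ (Over (Spec (CommRingCat.of k))) ⟶ H)).left.ker

omit [LocallyOfFiniteType G.hom] [QuasiCompact G.hom] in
theorem kerI_le {H₀ H₁ : Over (Spec (CommRingCat.of k))} [GrpObj H₀] [GrpObj H₁] (f₁ : G ⟶ H₁) (q : H₁ ⟶ H₀)
    [IsMonHom q] : kerI (f₁ ≫ q) ≤ kerI f₁ := by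
  have hwk : pullback.fst f₁ η[H₁] ≫ f₁ ≫ q = pullback.snd f₁ η[H₁] ≫ η[H₀] := by
    rw [pullback.condition_assoc, IsMonHom.one_hom]
  let l := pullback.lift _ _ hwk
  show _ ≤ (pullback.fst f₁ η[H₁]).left.ker
  rw [show pullback.fst f₁ η[H₁] = l ≫ pullback.fst (f₁ ≫ q) η[H₀] from (pullback.lift_fst _ _ _).symm,
    Over.comp_left]
  exact l.left.le_ker_comp _

theorem kill_of_kerI_le {H₀ H₁ : Over (Spec (CommRingCat.of k))} [GrpObj H₀] [GrpObj H₁]
    [LocallyOfFiniteType H₀.hom] [LocallyOfFiniteType H₁.hom] (f₀ : G ⟶ H₀) (f₁ : G ⟶ H₁) (h : kerI f₁ ≤ kerI f₀)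
    {T : Over (Spec (CommRingCat.of k))} (g : T ⟶ G) (hg : g ≫ f₀ = 1) : g ≫ f₁ = 1 := by
  haveI := ToAffine.isClosedImmersion_ker f₀
  haveI := ToAffine.isClosedImmersion_ker f₁
  let back := IsClosedImmersion.lift (pullback.fst f₁ η[H₁]).left (pullback.fst f₀ η[H₀]).left h
  have hback : back ≫ (pullback.fst f₁ η[H₁]).left = (pullback.fst f₀ η[H₀]).left := IsClosedImmersion.lift_fac _ _ _
  let backO : pullback f₀ η[H₀] ⟶ pullback f₁ η[H₁] := Over.homMk back (by
    rw [← Over.w (pullback.fst f₁ η[H₁]), reassoc_of% hback, Over.w])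
  let g₀ : T ⟶ pullback f₀ η[H₀] := pullback.lift g (toUnit T) (by rw [hg, Hom.one_def])
  have e : g = (g₀ ≫ backO) ≫ pullback.fst f₁ η[H₁] := by
    rw [Category.assoc, show backO ≫ pullback.fst f₁ η[H₁] = pullback.fst f₀ η[H₀] from
      Over.OverMorphism.ext hback, pullback.lift_fst]
  rw [e, Category.assoc, pullback.condition, ← Category.assoc, Hom.one_def,
    toUnit_unique ((g₀ ≫ backO) ≫ pullback.snd f₁ η[H₁]) (toUnit T)]

theorem main (J : Type w) [Category.{v} J] [IsCofiltered J] (D : J ⥤ Over (Spec (CommRingCat.of k)))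
    [∀ j, GrpObj (D.obj j)] [∀ (j j' : J) (φ : j ⟶ j'), IsMonHom (D.map φ)]
    (hD : ∀ j, LocallyOfFiniteType (D.obj j).hom)
    (c : Cone D) (hc : IsLimit c) [GrpObj c.pt] [∀ j, IsMonHom (M := c.pt) (N := D.obj j) (c.π.app j)]
    (u : G ⟶ c.pt) [IsMonHom u] (hdom : u.left.ker = ⊥) :
    Flat u.left ∧ Surjective u.left ∧ LocallyOfFiniteType c.pt.hom ∧ QuasiCompact c.pt.hom := by
  haveI : CompactSpace G.left := QuasiCompact.compactSpace_of_compactSpace G.hom
  haveI : IsLocallyNoetherian G.left := LocallyOfFiniteType.isLocallyNoetherian G.hom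
  haveI : IsNoetherian G.left := {}
  haveI := Groth.Agent.S4362.result G.left
  haveI := hD
  haveI : ∀ j, IsMonHom (u ≫ c.π.app j : G ⟶ D.obj j) := fun j => inferInstance
  obtain ⟨j⟩ := IsCofiltered.nonempty (C := J)
  obtain ⟨_, ⟨j₀, rfl⟩, hmax⟩ := (wellFounded_gt (α := G.left.IdealSheafData)).has_min
    (Set.range fun j => kerI (u ≫ c.π.app j : G ⟶ D.obj j)) ⟨_, j, rfl⟩
  have hkill : ∀ (j : J) {T : Over (Spec (CommRingCat.of k))} (g : T ⟶ G),
      g ≫ (u ≫ c.π.app j₀ : G ⟶ D.obj j₀) = 1 → g ≫ (u ≫ c.π.app j : G ⟶ D.obj j) = 1 := by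
    intro j T g hg
    obtain ⟨m, a, b, -⟩ := IsCofilteredOrEmpty.cone_objs j₀ j
    have e₀ : (u ≫ c.π.app j₀ : G ⟶ D.obj j₀) = (u ≫ c.π.app m : G ⟶ D.obj m) ≫ D.map a := by
      rw [Category.assoc, c.w]
    have e₁ : (u ≫ c.π.app j : G ⟶ D.obj j) = (u ≫ c.π.app m : G ⟶ D.obj m) ≫ D.map b := by
      rw [Category.assoc, c.w]
    have hle : kerI (u ≫ c.π.app j₀ : G ⟶ D.obj j₀) ≤ kerI (u ≫ c.π.app m : G ⟶ D.obj m) := by
      rw [e₀]; exact kerI_le _ _
    have hge : kerI (u ≫ c.π.app m : G ⟶ D.obj m) ≤ kerI (u ≫ c.π.app j₀ : G ⟶ D.obj j₀) := by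
      by_contra hn
      exact hmax _ ⟨m, rfl⟩ (lt_of_le_not_ge hle hn)
    rw [e₁, ← Category.assoc, kill_of_kerI_le _ _ hge g hg, MonObj.one_comp]
  haveI : IsSeparated (D.obj j₀).hom := Groth.Agent.GrpField.isSeparated_grp (G := D.obj j₀)
  haveI : QuasiCompact (u ≫ c.π.app j₀ : G ⟶ D.obj j₀).left := by
    haveI : QuasiSeparatedSpace (D.obj j₀).left := quasiSeparatedSpace_of_quasiSeparated (D.obj j₀).hom
    exact quasiCompact_of_compactSpace _
  haveI : Flat G.hom := ToAffine.flat_to_field G.hom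
  obtain ⟨C, _, p, i, _, _, hpi, hf, hs, hl, hi⟩ :=
    Groth.Agent.GrpHom.exists_fppf_image (u ≫ c.π.app j₀ : G ⟶ D.obj j₀) (ToAffine.flat_to_field (k := k) _)
  haveI := hf; haveI := hs; haveI := hl; haveI := hi
  have hdesc : ∀ j, ∃ s : C ⟶ D.obj j, p ≫ s = u ≫ c.π.app j := by
    intro j
    refine Groth.Agent.MonoQuot.exists_desc_over p _ fun T g g' h => ?_
    have h' : g ≫ (u ≫ c.π.app j₀ : G ⟶ D.obj j₀) = g' ≫ (u ≫ c.π.app j₀ : G ⟶ D.obj j₀) := by
      rw [← hpi, ← Category.assoc, h, Category.assoc]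
    have h1 : (g⁻¹ * g') ≫ (u ≫ c.π.app j : G ⟶ D.obj j) = 1 := hkill j _ (by
      rw [MonObj.mul_comp, GrpObj.inv_comp, h', inv_mul_cancel])
    rw [MonObj.mul_comp, GrpObj.inv_comp] at h1
    exact inv_mul_eq_one.mp h1
  choose s hs' using hdesc
  haveI : Epi p := Groth.Agent.MonoQuot.epi_over p
  let cC : Cone D :=
    { pt := C
      π := { app := fun j => s j
             naturality := fun j j' φ => by
               rw [← cancel_epi p]
               simp only [Functor.const_obj_obj, Functor.const_obj_map, Category.id_comp]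
               rw [hs', reassoc_of% (hs' j), c.w] } }
  let σ : C ⟶ c.pt := hc.lift cC
  have hσ : ∀ j, σ ≫ c.π.app j = s j := fun j => hc.fac cC j
  have hpσ : p ≫ σ = u := hc.hom_ext fun j => by rw [Category.assoc, hσ, hs']
  have hsi : s j₀ = i := by rw [← cancel_epi p, hs', hpi]
  haveI : IsSeparated c.pt.hom := Groth.Agent.GrpField.isSeparated_grp (G := c.pt)
  haveI : IsSeparated ((c.π.app j₀).left ≫ (D.obj j₀).hom) := by rw [Over.w]; exact ‹IsSeparated c.pt.hom›
  haveI : IsSeparated (c.π.app j₀).left := IsSeparated.of_comp _ (D.obj j₀).hom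
  haveI : IsClosedImmersion (σ.left ≫ (c.π.app j₀).left) := by
    rw [← Over.comp_left, hσ, hsi]; exact hi
  haveI : IsClosedImmersion σ.left := IsClosedImmersion.of_comp σ.left (c.π.app j₀).left
  have hker : σ.left.ker = ⊥ := le_bot_iff.1 ((p.left.le_ker_comp σ.left).trans (by rw [← Over.comp_left, hpσ, hdom]))
  haveI : IsIso σ.left := IsClosedImmersion.isIso_iff_ker_eq_bot.2 hker
  haveI : LocallyOfFiniteType C.hom := by rw [← Over.w i]; infer_instance
  haveI : CompactSpace C.left := p.left.surjective.compactSpace p.left.continuous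
  haveI : QuasiCompact C.hom := quasiCompact_of_compactSpace _
  have eu : u.left = p.left ≫ σ.left := by rw [← Over.comp_left, hpσ]
  have ec : c.pt.hom = inv σ.left ≫ C.hom := by rw [IsIso.eq_inv_comp, Over.w σ]
  refine ⟨?_, ?_, ?_, ?_⟩
  · rw [eu]; infer_instance
  · rw [eu]; infer_instance
  · rw [ec]; infer_instance
  · rw [ec]; infer_instance

end OrbitLib.ToLimit
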